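import Cfsg.Agent.S0144
import Cfsg.Agent.Lib.Invol.Cyclic
import Mathlib

/-!
# Simple groups of order at most one hundred
-/

set_option autoImplicit false

namespace Cfsg.Lib.OrderLeHundred

theorem order_cases (n : ℕ) (h1 : 1 ≤ n) (h : n ≤ 100) :
    (∃ p q a b : ℕ, p.Prime ∧ q.Prime ∧ n = p ^ a * q ^ b) ∨ Squarefree n ∨ n = 60 ∨ n = 84 ∨ n = 90 := by
  interval_cases n
  · exact Or.inl ⟨2, 3, 0, 0, by norm_num, by norm_num, by norm_num⟩
  · exact Or.inl ⟨2, 3, 1, 0, by norm_num, by norm_num, by norm_num⟩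
  · exact Or.inl ⟨3, 2, 1, 0, by norm_num, by norm_num, by norm_num⟩
  · exact Or.inl ⟨2, 3, 2, 0, by norm_num, by norm_num, by norm_num⟩
  · exact Or.inl ⟨5, 2, 1, 0, by norm_num, by norm_num, by norm_num⟩
  · exact Or.inl ⟨2, 3, 1, 1, by norm_num, by norm_num, by norm_num⟩
  · exact Or.inl ⟨7, 2, 1, 0, by norm_num, by norm_num, by norm_num⟩
  · exact Or.inl ⟨2, 3, 3, 0, by norm_num, by norm_num, by norm_num⟩
  · exact Or.inl ⟨3, 2, 2, 0, by norm_num, by norm_num, by norm_num⟩
  · exact Or.inl ⟨2, 5, 1, 1, by norm_num, by norm_num, by norm_num⟩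
  · exact Or.inl ⟨11, 2, 1, 0, by norm_num, by norm_num, by norm_num⟩
  · exact Or.inl ⟨2, 3, 2, 1, by norm_num, by norm_num, by norm_num⟩
  · exact Or.inl ⟨13, 2, 1, 0, by norm_num, by norm_num, by norm_num⟩
  · exact Or.inl ⟨2, 7, 1, 1, by norm_num, by norm_num, by norm_num⟩
  · exact Or.inl ⟨3, 5, 1, 1, by norm_num, by norm_num, by norm_num⟩
  · exact Or.inl ⟨2, 3, 4, 0, by norm_num, by norm_num, by norm_num⟩
  · exact Or.inl ⟨17, 2, 1, 0, by norm_num, by norm_num, by norm_num⟩
  · exact Or.inl ⟨2, 3, 1, 2, by norm_num, by norm_num, by norm_num⟩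
  · exact Or.inl ⟨19, 2, 1, 0, by norm_num, by norm_num, by norm_num⟩
  · exact Or.inl ⟨2, 5, 2, 1, by norm_num, by norm_num, by norm_num⟩
  · exact Or.inl ⟨3, 7, 1, 1, by norm_num, by norm_num, by norm_num⟩
  · exact Or.inl ⟨2, 11, 1, 1, by norm_num, by norm_num, by norm_num⟩
  · exact Or.inl ⟨23, 2, 1, 0, by norm_num, by norm_num, by norm_num⟩
  · exact Or.inl ⟨2, 3, 3, 1, by norm_num, by norm_num, by norm_num⟩
  · exact Or.inl ⟨5, 2, 2, 0, by norm_num, by norm_num, by norm_num⟩
  · exact Or.inl ⟨2, 13, 1, 1, by norm_num, by norm_num, by norm_num⟩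
  · exact Or.inl ⟨3, 2, 3, 0, by norm_num, by norm_num, by norm_num⟩
  · exact Or.inl ⟨2, 7, 2, 1, by norm_num, by norm_num, by norm_num⟩
  · exact Or.inl ⟨29, 2, 1, 0, by norm_num, by norm_num, by norm_num⟩
  · refine Or.inr (Or.inl ?_); decide +kernel
  · exact Or.inl ⟨31, 2, 1, 0, by norm_num, by norm_num, by norm_num⟩
  · exact Or.inl ⟨2, 3, 5, 0, by norm_num, by norm_num, by norm_num⟩
  · exact Or.inl ⟨3, 11, 1, 1, by norm_num, by norm_num, by norm_num⟩
  · exact Or.inl ⟨2, 17, 1, 1, by norm_num, by norm_num, by norm_num⟩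
  · exact Or.inl ⟨5, 7, 1, 1, by norm_num, by norm_num, by norm_num⟩
  · exact Or.inl ⟨2, 3, 2, 2, by norm_num, by norm_num, by norm_num⟩
  · exact Or.inl ⟨37, 2, 1, 0, by norm_num, by norm_num, by norm_num⟩
  · exact Or.inl ⟨2, 19, 1, 1, by norm_num, by norm_num, by norm_num⟩
  · exact Or.inl ⟨3, 13, 1, 1, by norm_num, by norm_num, by norm_num⟩
  · exact Or.inl ⟨2, 5, 3, 1, by norm_num, by norm_num, by norm_num⟩
  · exact Or.inl ⟨41, 2, 1, 0, by norm_num, by norm_num, by norm_num⟩
  · refine Or.inr (Or.inl ?_); decide +kernel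
  · exact Or.inl ⟨43, 2, 1, 0, by norm_num, by norm_num, by norm_num⟩
  · exact Or.inl ⟨2, 11, 2, 1, by norm_num, by norm_num, by norm_num⟩
  · exact Or.inl ⟨3, 5, 2, 1, by norm_num, by norm_num, by norm_num⟩
  · exact Or.inl ⟨2, 23, 1, 1, by norm_num, by norm_num, by norm_num⟩
  · exact Or.inl ⟨47, 2, 1, 0, by norm_num, by norm_num, by norm_num⟩
  · exact Or.inl ⟨2, 3, 4, 1, by norm_num, by norm_num, by norm_num⟩
  · exact Or.inl ⟨7, 2, 2, 0, by norm_num, by norm_num, by norm_num⟩
  · exact Or.inl ⟨2, 5, 1, 2, by norm_num, by norm_num, by norm_num⟩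
  · exact Or.inl ⟨3, 17, 1, 1, by norm_num, by norm_num, by norm_num⟩
  · exact Or.inl ⟨2, 13, 2, 1, by norm_num, by norm_num, by norm_num⟩
  · exact Or.inl ⟨53, 2, 1, 0, by norm_num, by norm_num, by norm_num⟩
  · exact Or.inl ⟨2, 3, 1, 3, by norm_num, by norm_num, by norm_num⟩
  · exact Or.inl ⟨5, 11, 1, 1, by norm_num, by norm_num, by norm_num⟩
  · exact Or.inl ⟨2, 7, 3, 1, by norm_num, by norm_num, by norm_num⟩
  · exact Or.inl ⟨3, 19, 1, 1, by norm_num, by norm_num, by norm_num⟩
  · exact Or.inl ⟨2, 29, 1, 1, by norm_num, by norm_num, by norm_num⟩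
  · exact Or.inl ⟨59, 2, 1, 0, by norm_num, by norm_num, by norm_num⟩
  · exact Or.inr (Or.inr (Or.inl rfl))
  · exact Or.inl ⟨61, 2, 1, 0, by norm_num, by norm_num, by norm_num⟩
  · exact Or.inl ⟨2, 31, 1, 1, by norm_num, by norm_num, by norm_num⟩
  · exact Or.inl ⟨3, 7, 2, 1, by norm_num, by norm_num, by norm_num⟩
  · exact Or.inl ⟨2, 3, 6, 0, by norm_num, by norm_num, by norm_num⟩
  · exact Or.inl ⟨5, 13, 1, 1, by norm_num, by norm_num, by norm_num⟩
  · refine Or.inr (Or.inl ?_); decide +kernel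
  · exact Or.inl ⟨67, 2, 1, 0, by norm_num, by norm_num, by norm_num⟩
  · exact Or.inl ⟨2, 17, 2, 1, by norm_num, by norm_num, by norm_num⟩
  · exact Or.inl ⟨3, 23, 1, 1, by norm_num, by norm_num, by norm_num⟩
  · refine Or.inr (Or.inl ?_); decide +kernel
  · exact Or.inl ⟨71, 2, 1, 0, by norm_num, by norm_num, by norm_num⟩
  · exact Or.inl ⟨2, 3, 3, 2, by norm_num, by norm_num, by norm_num⟩
  · exact Or.inl ⟨73, 2, 1, 0, by norm_num, by norm_num, by norm_num⟩
  · exact Or.inl ⟨2, 37, 1, 1, by norm_num, by norm_num, by norm_num⟩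
  · exact Or.inl ⟨3, 5, 1, 2, by norm_num, by norm_num, by norm_num⟩
  · exact Or.inl ⟨2, 19, 2, 1, by norm_num, by norm_num, by norm_num⟩
  · exact Or.inl ⟨7, 11, 1, 1, by norm_num, by norm_num, by norm_num⟩
  · refine Or.inr (Or.inl ?_); decide +kernel
  · exact Or.inl ⟨79, 2, 1, 0, by norm_num, by norm_num, by norm_num⟩
  · exact Or.inl ⟨2, 5, 4, 1, by norm_num, by norm_num, by norm_num⟩
  · exact Or.inl ⟨3, 2, 4, 0, by norm_num, by norm_num, by norm_num⟩
  · exact Or.inl ⟨2, 41, 1, 1, by norm_num, by norm_num, by norm_num⟩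
  · exact Or.inl ⟨83, 2, 1, 0, by norm_num, by norm_num, by norm_num⟩
  · exact Or.inr (Or.inr (Or.inr (Or.inl rfl)))
  · exact Or.inl ⟨5, 17, 1, 1, by norm_num, by norm_num, by norm_num⟩
  · exact Or.inl ⟨2, 43, 1, 1, by norm_num, by norm_num, by norm_num⟩
  · exact Or.inl ⟨3, 29, 1, 1, by norm_num, by norm_num, by norm_num⟩
  · exact Or.inl ⟨2, 11, 3, 1, by norm_num, by norm_num, by norm_num⟩
  · exact Or.inl ⟨89, 2, 1, 0, by norm_num, by norm_num, by norm_num⟩
  · exact Or.inr (Or.inr (Or.inr (Or.inr rfl)))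
  · exact Or.inl ⟨7, 13, 1, 1, by norm_num, by norm_num, by norm_num⟩
  · exact Or.inl ⟨2, 23, 2, 1, by norm_num, by norm_num, by norm_num⟩
  · exact Or.inl ⟨3, 31, 1, 1, by norm_num, by norm_num, by norm_num⟩
  · exact Or.inl ⟨2, 47, 1, 1, by norm_num, by norm_num, by norm_num⟩
  · exact Or.inl ⟨5, 19, 1, 1, by norm_num, by norm_num, by norm_num⟩
  · exact Or.inl ⟨2, 3, 5, 1, by norm_num, by norm_num, by norm_num⟩
  · exact Or.inl ⟨97, 2, 1, 0, by norm_num, by norm_num, by norm_num⟩
  · exact Or.inl ⟨2, 7, 1, 2, by norm_num, by norm_num, by norm_num⟩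
  · exact Or.inl ⟨3, 11, 2, 1, by norm_num, by norm_num, by norm_num⟩
  · exact Or.inl ⟨2, 5, 2, 2, by norm_num, by norm_num, by norm_num⟩

section Simple

variable {G : Type*} [Group G] [Finite G] [IsSimpleGroup G]

theorem not_solvable (hG : ¬ IsCyclic G) : ¬ Group.IsSolvable G := by
  intro h
  have hc := IsSimpleGroup.comm_iff_isSolvable.2 h
  letI : CommGroup G := { (inferInstance : Group G) with mul_comm := hc }
  exact hG (IsSimpleGroup.isCyclic (α := G))

theorem noncyclic_of_card_sixty (h : Nat.card G = 60) : ¬ IsCyclic G := by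
  intro hc
  letI := hc.commGroup
  have := IsSimpleGroup.prime_card (α := G)
  rw [h] at this
  norm_num at this

theorem no_index_two (hG : ¬ IsCyclic G) (H : Subgroup G) : H.index ≠ 2 := by
  intro h
  have hn : H.Normal := Subgroup.normal_of_index_eq_two h
  rcases hn.eq_bot_or_eq_top with h1 | h1
  · rw [h1, Subgroup.index_bot] at h
    have := Fact.mk Nat.prime_two
    exact hG (isCyclic_of_prime_card h)
  · rw [h1, Subgroup.index_top] at h
    omega

theorem card_dvd_factorial_index {H : Subgroup G} (hH : H ≠ ⊤) :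
    Nat.card G ∣ (H.index).factorial ∧ Function.Injective (MulAction.toPermHom G (G ⧸ H)) := by
  have hinj : Function.Injective (MulAction.toPermHom G (G ⧸ H)) := by
    rcases (MonoidHom.normal_ker (MulAction.toPermHom G (G ⧸ H))).eq_bot_or_eq_top with h | h
    · exact (MonoidHom.ker_eq_bot_iff _).1 h
    · exfalso
      refine hH (top_le_iff.1 ?_)
      rw [← h, ← Subgroup.normalCore_eq_ker]
      exact Subgroup.normalCore_le H
  refine ⟨?_, hinj⟩
  rw [Subgroup.index, ← Nat.card_perm]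
  exact Subgroup.card_dvd_of_injective _ hinj

theorem sylow_count (p : ℕ) [Fact p.Prime] {k m : ℕ} (hk : Nat.card G = p ^ k * m) (hm : ¬ p ∣ m) :
    (∀ P : Sylow p G, Nat.card (P : Subgroup G) = p ^ k) ∧ Nat.card (Sylow p G) ∣ m ∧
      Nat.card (Sylow p G) % p = 1 := by
  have hcard : ∀ P : Sylow p G, Nat.card (P : Subgroup G) = p ^ k := by
    intro P
    rw [P.card_eq_multiplicity, hk]
    congr 1
    rw [Nat.factorization_mul (pow_ne_zero _ (Fact.out : p.Prime).ne_zero) (by rintro rfl; simp at hm),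
      Nat.Prime.factorization_pow Fact.out, Finsupp.add_apply, Finsupp.single_eq_same,
      Nat.factorization_eq_zero_of_not_dvd hm, add_zero]
  refine ⟨hcard, ?_, ?_⟩
  · obtain ⟨P⟩ : Nonempty (Sylow p G) := inferInstance
    have h1 := P.card_dvd_index
    have h2 := Subgroup.card_mul_index (P : Subgroup G)
    rw [hcard P, hk] at h2
    rwa [Nat.eq_of_mul_eq_mul_left (pow_pos (Fact.out : p.Prime).pos k) h2] at h1
  · have h1 : Nat.card (Sylow p G) % p = 1 % p := card_sylow_modEq_one p G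
    rw [h1, Nat.one_mod_eq_one.2 (Fact.out : p.Prime).ne_one]

theorem sylow_ne_one (hG : ¬ IsCyclic G) (p : ℕ) [Fact p.Prime] {k m : ℕ} (hk : Nat.card G = p ^ k * m)
    (hm : ¬ p ∣ m) (hk0 : k ≠ 0) (hm1 : 1 < m) : Nat.card (Sylow p G) ≠ 1 := by
  intro h1
  obtain ⟨hcard, -, -⟩ := sylow_count p hk hm
  obtain ⟨P⟩ : Nonempty (Sylow p G) := inferInstance
  have hsub : Subsingleton (Sylow p G) := (Nat.card_eq_one_iff_unique.1 h1).1
  rcases (P.normal_of_subsingleton : (P : Subgroup G).Normal).eq_bot_or_eq_top with h | h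
  · have := hcard P
    rw [h, Subgroup.card_bot] at this
    exact hk0 (by
      by_contra hne
      have h2 := Nat.one_lt_pow hne (Fact.out : p.Prime).one_lt
      omega)
  · have := hcard P
    rw [h, Subgroup.card_top, hk] at this
    have hpp := pow_pos (Fact.out : p.Prime).pos k
    nlinarith

theorem exists_index_five (h : Nat.card G = 60) : ∃ H : Subgroup G, H.index = 5 := by
  classical
  have hG := noncyclic_of_card_sixty h
  have small : ∀ H : Subgroup G, H ≠ ⊤ → 5 ≤ H.index := by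
    intro H hH
    by_contra hlt
    have hd := (card_dvd_factorial_index hH).1
    rw [h] at hd
    interval_cases hi : H.index <;> norm_num [Nat.factorial] at hd
  have := Fact.mk Nat.prime_two
  have := Fact.mk Nat.prime_five
  obtain ⟨hc2, hd2, hm2⟩ := sylow_count 2 (k := 2) (m := 15) (by omega : Nat.card G = 2 ^ 2 * 15) (by norm_num)
  obtain ⟨hc5, hd5, hm5⟩ := sylow_count 5 (k := 1) (m := 12) (by omega : Nat.card G = 5 ^ 1 * 12) (by norm_num)
  have hn2 := sylow_ne_one hG 2 (k := 2) (m := 15) (by omega : Nat.card G = 2 ^ 2 * 15) (by norm_num) (by norm_num) (by norm_num)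
  have hn5 := sylow_ne_one hG 5 (k := 1) (m := 12) (by omega : Nat.card G = 5 ^ 1 * 12) (by norm_num) (by norm_num) (by norm_num)
  have h5 : Nat.card (Sylow 5 G) = 6 := by
    have := Nat.le_of_dvd (by norm_num) hd5
    interval_cases (Nat.card (Sylow 5 G)) <;> omega
  obtain ⟨P⟩ : Nonempty (Sylow 2 G) := inferInstance
  have hNidx : (Subgroup.normalizer ((P : Subgroup G) : Set G)).index = Nat.card (Sylow 2 G) :=
    (Sylow.card_eq_index_normalizer P).symm
  have h2 : Nat.card (Sylow 2 G) = 5 ∨ Nat.card (Sylow 2 G) = 15 := by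
    have hne : Subgroup.normalizer ((P : Subgroup G) : Set G) ≠ ⊤ := fun ht => by
      rw [ht, Subgroup.index_top] at hNidx
      exact hn2 hNidx.symm
    have h5le := hNidx ▸ small _ hne
    have := Nat.le_of_dvd (by norm_num) hd2
    interval_cases (Nat.card (Sylow 2 G)) <;> omega
  rcases h2 with h2 | h2
  · exact ⟨_, hNidx.trans h2⟩
  -- two Sylow 2-subgroups share an involution
  obtain ⟨P₁, P₂, t, hne, ht1, htP, htQ⟩ : ∃ (P₁ P₂ : Sylow 2 G) (t : G), P₁ ≠ P₂ ∧ t ≠ 1 ∧
      t ∈ (P₁ : Subgroup G) ∧ t ∈ (P₂ : Subgroup G) := by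
    by_contra hno
    push Not at hno
    let A := Σ R : Sylow 2 G, {x : (R : Subgroup G) // x ≠ 1}
    let B := Σ R : Sylow 5 G, {x : (R : Subgroup G) // x ≠ 1}
    let f : A ⊕ B → {x : G // x ≠ 1} := fun a => match a with
      | Sum.inl a => ⟨((a.2 : (a.1 : Subgroup G)) : G), fun h => a.2.2 (Subtype.ext h)⟩
      | Sum.inr b => ⟨((b.2 : (b.1 : Subgroup G)) : G), fun h => b.2.2 (Subtype.ext h)⟩
    have hmix : ∀ (R : Sylow 2 G) (S : Sylow 5 G) (x : G), x ∈ (R : Subgroup G) → x ∈ (S : Subgroup G) → x = 1 := by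
      intro R S x hR hS
      have hb : (R : Subgroup G) ⊓ (S : Subgroup G) = ⊥ :=
        Subgroup.inf_eq_bot_of_coprime (by rw [hc2 R, hc5 S]; norm_num)
      exact Subgroup.mem_bot.1 (hb ▸ Subgroup.mem_inf.2 ⟨hR, hS⟩)
    have hfive : ∀ (R S : Sylow 5 G) (x : G), x ≠ 1 → x ∈ (R : Subgroup G) → x ∈ (S : Subgroup G) → R = S := by
      intro R S x hx hR hS
      have hcz : ∀ T : Sylow 5 G, x ∈ (T : Subgroup G) → Subgroup.zpowers x = T := by
        intro T hT
        refine Subgroup.eq_of_le_of_card_ge (Subgroup.zpowers_le.2 hT) ?_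
        rw [hc5 T, Nat.card_zpowers]
        have hd := Subgroup.orderOf_dvd_natCard _ hT
        rw [hc5 T, pow_one] at hd
        rw [pow_one]
        rcases (Nat.dvd_prime Nat.prime_five).1 hd with h' | h'
        · exact absurd (orderOf_eq_one_iff.1 h') hx
        · exact h'.ge
      exact Sylow.ext ((hcz R hR).symm.trans (hcz S hS))
    have hinj : Function.Injective f := by
      rintro (⟨R, x, hx⟩ | ⟨R, x, hx⟩) (⟨S, y, hy⟩ | ⟨S, y, hy⟩) hxy <;>
        simp only [f, Subtype.mk.injEq] at hxy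
      · have : R = S := by
          by_contra hRS
          exact hno R S x hRS (fun h => hx (Subtype.ext h)) x.2 (hxy ▸ y.2)
        subst this
        obtain rfl : x = y := Subtype.ext hxy
        rfl
      · exact absurd (Subtype.ext (hmix R S x x.2 (hxy ▸ y.2))) hx
      · exact absurd (Subtype.ext (hmix S R y y.2 (hxy ▸ x.2))) hy
      · have : R = S := hfive R S x (fun h => hx (Subtype.ext h)) x.2 (hxy ▸ y.2)
        subst this
        obtain rfl : x = y := Subtype.ext hxy
        rfl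
    have hle := Nat.card_le_card_of_injective f hinj
    have hcompl : ∀ (T : Type _) [Finite T] (e : T), Nat.card {x : T // x ≠ e} = Nat.card T - 1 := by
      intro T _ e
      have := Fintype.ofFinite T
      rw [Nat.card_eq_fintype_card, Nat.card_eq_fintype_card, Fintype.card_subtype_compl,
        Fintype.card_subtype_eq]
    have := Fintype.ofFinite (Sylow 2 G)
    have := Fintype.ofFinite (Sylow 5 G)
    rw [Nat.card_sum, hcompl G 1, h, Nat.card_sigma, Nat.card_sigma] at hle
    simp only [hcompl, hc2, hc5, Finset.sum_const, Finset.card_univ, smul_eq_mul] at hle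
    rw [← Nat.card_eq_fintype_card, ← Nat.card_eq_fintype_card, h2, h5] at hle
    norm_num at hle
  -- the centralizer of that involution has index five
  refine ⟨Subgroup.centralizer ({t} : Set G), ?_⟩
  have hle : ∀ R : Sylow 2 G, t ∈ (R : Subgroup G) → (R : Subgroup G) ≤ Subgroup.centralizer ({t} : Set G) := by
    intro R hR r hr
    have := IsPGroup.commutative_of_card_eq_prime_sq (p := 2) (hc2 R)
    exact Subgroup.mem_centralizer_singleton_iff.2 (congrArg Subtype.val (this ⟨r, hr⟩ ⟨t, hR⟩))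
  set C := Subgroup.centralizer ({t} : Set G) with hC
  have hCtop : C ≠ ⊤ := by
    intro htop
    have htc : t ∈ Subgroup.center G := Subgroup.mem_center_iff.2 fun g =>
      Subgroup.mem_centralizer_singleton_iff.1 (show g ∈ C by rw [htop]; exact Subgroup.mem_top g)
    rcases (Subgroup.center G).normal_of_characteristic.eq_bot_or_eq_top with hz | hz
    · exact ht1 (Subgroup.mem_bot.1 (hz ▸ htc))
    · exact not_solvable hG (IsSimpleGroup.comm_iff_isSolvable.1 fun a b => Subgroup.mem_center_iff.1 (hz ▸ Subgroup.mem_top b) a)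
  have h4 : 4 ∣ Nat.card C := by
    have := Subgroup.card_dvd_of_le (hle P₁ htP)
    rwa [hc2 P₁] at this
  have hmul := Subgroup.card_mul_index C
  rw [h] at hmul
  have h5le := small C hCtop
  obtain ⟨d, hd⟩ := h4
  have hd1 : d ≠ 1 := by
    rintro rfl
    refine hne (Sylow.ext ?_)
    rw [Subgroup.eq_of_le_of_card_ge (hle P₁ htP) (by rw [hc2 P₁, hd]; norm_num),
      Subgroup.eq_of_le_of_card_ge (hle P₂ htQ) (by rw [hc2 P₂, hd]; norm_num)]
  rw [hd] at hmul
  have hdi : d * C.index = 15 := by nlinarith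
  have : C.index ≤ 15 := Nat.le_of_dvd (by norm_num) (Dvd.intro_left d hdi)
  interval_cases C.index <;> omega

theorem iso_alternating_five (h : Nat.card G = 60) : Nonempty (G ≃* alternatingGroup (Fin 5)) := by
  obtain ⟨H, hH⟩ := exists_index_five h
  have hne : H ≠ ⊤ := by
    rintro rfl
    simp at hH
  obtain ⟨-, hinj⟩ := card_dvd_factorial_index hne
  let e : (G ⧸ H) ≃ Fin 5 := (Finite.equivFin _).trans (finCongr (by rw [← Subgroup.index_eq_card]; exact hH))
  let f : G →* Equiv.Perm (Fin 5) := e.permCongrHom.toMonoidHom.comp (MulAction.toPermHom G (G ⧸ H))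
  have hf : Function.Injective f := e.permCongrHom.injective.comp hinj
  have hr : f.range = alternatingGroup (Fin 5) := by
    refine Equiv.Perm.eq_alternatingGroup_of_index_eq_two ?_
    have h1 := Subgroup.card_mul_index f.range
    rw [← Nat.card_congr (MonoidHom.ofInjective hf).toEquiv, h, Nat.card_perm, Nat.card_fin] at h1
    norm_num [Nat.factorial] at h1
    omega
  exact ⟨(MonoidHom.ofInjective hf).trans (MulEquiv.subgroupCongr hr)⟩

theorem card_eq_sixty (hG : ¬ IsCyclic G) (h : Nat.card G ≤ 100) : Nat.card G = 60 := by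
  rcases order_cases (Nat.card G) Nat.card_pos h with ⟨p, q, a, b, hp, hq, hpq⟩ | hs | h60 | h84 | h90
  · exact absurd (Cfsg.Agent.S0144.result p q a b hp hq hpq) (not_solvable hG)
  · have := IsZGroup.of_squarefree hs
    exact absurd (inferInstance : Group.IsSolvable G) (not_solvable hG)
  · exact h60
  · exfalso
    have := Fact.mk (show Nat.Prime 7 by norm_num)
    obtain ⟨-, hd, hm⟩ := sylow_count (G := G) 7 (k := 1) (m := 12) (by omega) (by norm_num)
    have hne := sylow_ne_one hG 7 (k := 1) (m := 12) (by omega : Nat.card G = 7 ^ 1 * 12) (by norm_num) (by norm_num) (by norm_num)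
    have := Nat.le_of_dvd (by norm_num) hd
    interval_cases (Nat.card (Sylow 7 G)) <;> omega
  · exfalso
    have := Fact.mk Nat.prime_two
    obtain ⟨P⟩ : Nonempty (Sylow 2 G) := inferInstance
    have hc := (sylow_count (G := G) 2 (k := 1) (m := 45) (by omega) (by norm_num)).1 P
    obtain ⟨H, hH⟩ := Cfsg.Lib.Invol.exists_index_two_of_isCyclic (by rw [h90]; decide) P
      (isCyclic_of_prime_card (p := 2) (by rw [hc]; norm_num))
    exact no_index_two hG H hH

end Simple

end Cfsg.Lib.OrderLeHundred
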