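import Mathlib
import Cfsg.Prelude.Def_Classification2

/-!
# Automorphisms of odd order of two-groups with a cyclic subgroup of index two
-/

set_option autoImplicit false

namespace Cfsg.Lib.DihedralAut

open Subgroup

variable {Q : Type*} [Group Q] [Finite Q]

theorem eq_one_of_stable_cyclic (hQ : IsPGroup 2 Q) (σ : MulAut Q) {m : ℕ} (hm : Odd m)
    (hσ : σ ^ m = 1) (R : Subgroup Q) [IsCyclic R] (hidx : R.index ≤ 2) (hR : ∀ q ∈ R, σ q ∈ R) :
    σ = 1 := by
  obtain ⟨g, hg⟩ := IsCyclic.exists_generator (α := R)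
  obtain ⟨k, hk⟩ : ∃ k, orderOf (g : Q) = 2 ^ k := IsPGroup.iff_orderOf.1 hQ (g : Q)
  obtain ⟨a, ha⟩ : ∃ a : ℕ, σ (g : Q) = (g : Q) ^ a := by
    obtain ⟨i, hi⟩ := Submonoid.mem_powers_iff _ _ |>.1
      (mem_powers_iff_mem_zpowers.2 (hg ⟨σ (g : Q), hR _ g.2⟩))
    exact ⟨i, (congrArg Subtype.val hi).symm⟩
  have hiter : ∀ j : ℕ, (σ ^ j) (g : Q) = (g : Q) ^ (a ^ j) := by
    intro j
    induction j with
    | zero => simp
    | succ j ih => rw [pow_succ' σ, MulAut.mul_apply, ih, map_pow, ha, ← pow_mul, pow_succ']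
  have hmod : ((a : ZMod (2 ^ k)) ^ m) = ((1 : ℕ) : ZMod (2 ^ k)) := by
    rw [← Nat.cast_pow, ZMod.natCast_eq_natCast_iff, ← hk]
    rw [← pow_eq_pow_iff_modEq, ← hiter, hσ, MulAut.one_apply, pow_one]
  have ha1 : (a : ZMod (2 ^ k)) = ((1 : ℕ) : ZMod (2 ^ k)) := by
    rw [Nat.cast_one] at hmod ⊢
    have hm0 : m ≠ 0 := by rintro rfl; simp at hm
    set u : (ZMod (2 ^ k))ˣ := Units.ofPowEqOne _ m hmod hm0
    have h1 : orderOf u ∣ m := orderOf_dvd_of_pow_eq_one (Units.ext (by simpa [u] using hmod))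
    have h2 : orderOf u ∣ Nat.totient (2 ^ k) := orderOf_dvd_of_pow_eq_one (ZMod.pow_totient u)
    have hco : m.Coprime (Nat.totient (2 ^ k)) := by
      rcases k with _ | k
      · simp
      · rw [Nat.totient_prime_pow Nat.prime_two (Nat.succ_pos k)]
        simp only [Nat.add_sub_cancel, show 2 - 1 = 1 from rfl, mul_one]
        exact (Nat.coprime_two_right.2 hm).pow_right k
    have h3 : u = 1 := orderOf_eq_one_iff.1 (Nat.eq_one_of_dvd_coprimes hco h1 h2)
    simpa [u] using congrArg Units.val h3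
  have hgfix : σ (g : Q) = g := by
    rw [ha]
    conv_rhs => rw [← pow_one (g : Q)]
    rw [pow_eq_pow_iff_modEq, hk, ← ZMod.natCast_eq_natCast_iff]
    exact ha1
  have hfix : ∀ q ∈ R, σ q = q := by
    intro q hq
    obtain ⟨i, hi⟩ := Subgroup.mem_zpowers_iff.1 (hg ⟨q, hq⟩)
    have hqi : q = (g : Q) ^ i := (congrArg Subtype.val hi).symm
    rw [hqi, map_zpow, hgfix]
  refine MulEquiv.ext fun q => ?_
  rw [MulAut.one_apply]
  by_cases hq : q ∈ R
  · exact hfix q hq
  have hidx2 : R.index = 2 := by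
    have h0 : R.index ≠ 0 := index_ne_zero_of_finite
    have h1 : R.index ≠ 1 := fun h => hq (by rw [index_eq_one.1 h]; exact mem_top q)
    omega
  have hσq : σ q ∉ R := fun h => by
    refine hq ?_
    have : σ (σ q) = σ q := hfix _ h
    rwa [σ.injective this] at h
  have hr : q⁻¹ * σ q ∈ R :=
    (mul_mem_iff_of_index_two hidx2).2 (iff_of_false (fun h => hq (inv_mem_iff.1 h)) hσq)
  have hiter2 : ∀ j : ℕ, (σ ^ j) q = q * (q⁻¹ * σ q) ^ j := by
    intro j
    induction j with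
    | zero => simp
    | succ j ih =>
      rw [pow_succ' σ, MulAut.mul_apply, ih, map_mul, map_pow, hfix _ hr, pow_succ' (q⁻¹ * σ q),
        ← mul_assoc q, mul_inv_cancel_left]
  have h1 : (q⁻¹ * σ q) ^ m = 1 := by
    have := hiter2 m
    rw [hσ, MulAut.one_apply] at this
    exact left_eq_mul.1 this
  obtain ⟨l, hl⟩ := IsPGroup.iff_orderOf.1 hQ (q⁻¹ * σ q)
  have h2 := orderOf_dvd_of_pow_eq_one h1
  rw [hl] at h2
  have h3 : (2 : ℕ) ^ l = 1 :=
    Nat.eq_one_of_dvd_coprimes ((Nat.coprime_two_right.2 hm).pow_right l) h2 dvd_rfl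
  rw [h3, orderOf_eq_one_iff, inv_mul_eq_one] at hl
  exact hl.symm

/-- An odd order automorphism of a subgroup of a dihedral group fixing an involution is trivial. -/
theorem eq_one_of_embeds_dihedral (hQ : IsPGroup 2 Q) {n : ℕ} [NeZero n] (φ : Q →* DihedralGroup n)
    (hφ : Function.Injective φ) {t : Q} (ht : orderOf t = 2) (σ : MulAut Q) {m : ℕ} (hm : Odd m)
    (hσ : σ ^ m = 1) (hfix : σ t = t) : σ = 1 := by
  let rot : Subgroup (DihedralGroup n) := zpowers (DihedralGroup.r 1)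
  have hrot : ∀ i : ZMod n, DihedralGroup.r i ∈ rot := fun i => by
    refine ⟨(i.val : ℤ), ?_⟩
    simp [DihedralGroup.r_one_pow]
  have hrot' : ∀ i : ZMod n, DihedralGroup.sr i ∉ rot := by
    rintro i ⟨z, hz⟩
    simp at hz
  have hcyc : IsCyclic (rot.comap φ) :=
    isCyclic_of_injective (φ.subgroupComap rot) fun a b hab =>
      Subtype.ext (hφ (congrArg (fun z : rot => (z : DihedralGroup n)) hab))
  have hidx : (rot.comap φ).index ≤ 2 := by
    have h1 : rot.index = 2 := by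
      have hc := card_mul_index rot
      rw [Nat.card_zpowers, DihedralGroup.orderOf_r_one, DihedralGroup.nat_card, mul_comm 2 n] at hc
      exact Nat.eq_of_mul_eq_mul_left (Nat.pos_of_ne_zero (NeZero.ne n)) hc
    have hn : rot.Normal := normal_of_index_eq_two h1
    rw [index_comap]
    exact Nat.le_of_dvd two_pos (h1 ▸ relIndex_dvd_index_of_normal rot φ.range)
  by_cases hexp : ∀ w ∈ rot.comap φ, w ^ 2 = 1
  · -- then `Q` has order at most four
    have hR : Nat.card (rot.comap φ) ≤ 2 := by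
      obtain ⟨g, hg⟩ := IsCyclic.exists_generator (α := rot.comap φ)
      rw [← orderOf_eq_card_of_forall_mem_zpowers hg]
      exact Nat.le_of_dvd two_pos (orderOf_dvd_of_pow_eq_one (Subtype.ext (hexp _ g.2)))
    have hcard : Nat.card Q ≤ 4 := by
      rw [← card_mul_index (rot.comap φ)]
      exact (Nat.mul_le_mul hR hidx).trans (by norm_num)
    refine eq_one_of_stable_cyclic hQ σ hm hσ (zpowers t) ?_ ?_
    · have h := card_mul_index (zpowers t)
      rw [Nat.card_zpowers, ht] at h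
      omega
    · rintro q ⟨i, rfl⟩
      exact ⟨i, by simp [map_zpow, hfix]⟩
  · push Not at hexp
    obtain ⟨w, hw, hw2⟩ := hexp
    have big : ∀ x : Q, x ^ 2 ≠ 1 → ∃ i : ZMod n, φ x = DihedralGroup.r i ∧ i + i ≠ 0 := by
      intro x hx
      rcases hφx : φ x with i | i
      · refine ⟨i, rfl, fun h => hx (hφ ?_)⟩
        rw [map_pow, map_one, hφx, pow_two, DihedralGroup.r_mul_r, h]
        rfl
      · exact absurd (hφ (by rw [map_pow, map_one, hφx, pow_two, DihedralGroup.sr_mul_self])) hx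
    refine eq_one_of_stable_cyclic hQ σ hm hσ (rot.comap φ) hidx fun r hr => ?_
    obtain ⟨i, hi, hi2⟩ := big (σ w) fun h => hw2 (σ.injective (by rw [map_pow, h, map_one]))
    rw [mem_comap]
    rcases hx : φ (σ r) with j | j
    · exact hrot j
    · exfalso
      have hcomm : r * w = w * r := by
        apply hφ
        rw [map_mul, map_mul]
        obtain ⟨u, hu⟩ := hr
        obtain ⟨v, hv⟩ := hw
        rw [← hu, ← hv]
        exact ((Commute.refl _).zpow_zpow u v).eq
      have h2 := congrArg φ (congrArg σ hcomm)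
      rw [map_mul, map_mul, map_mul, map_mul, hx, hi, DihedralGroup.sr_mul_r, DihedralGroup.r_mul_sr] at h2
      have h3 : j + i = j - i := by injection h2
      refine hi2 ?_
      rw [sub_eq_add_neg] at h3
      have h4 : i = -i := add_left_cancel h3
      exact eq_neg_iff_add_eq_zero.1 h4

theorem isPGroup_mulAut_of_cyclic (hQ : IsPGroup 2 Q) (R : Subgroup Q) [IsCyclic R] (hidx : R.index ≤ 2)
    (hR : ∀ σ : MulAut Q, ∀ q ∈ R, σ q ∈ R) : IsPGroup 2 (MulAut Q) := by
  have : Finite (MulAut Q) := Finite.of_injective (fun σ : MulAut Q => (σ : Q → Q)) DFunLike.coe_injective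
  intro σ
  obtain ⟨k, m, hm, hkm⟩ := Nat.exists_eq_two_pow_mul_odd (orderOf_pos σ).ne'
  refine ⟨k, eq_one_of_stable_cyclic hQ (σ ^ 2 ^ k) hm ?_ R hidx fun q hq => hR _ q hq⟩
  rw [← pow_mul, ← hkm, pow_orderOf_eq_one]

theorem isPGroup_mulAut_dihedral (hQ : IsPGroup 2 Q) {n : ℕ} (hn : 3 ≤ n) (e : Q ≃* DihedralGroup n) :
    IsPGroup 2 (MulAut Q) := by
  have : NeZero n := ⟨by omega⟩
  have key : ∀ x : DihedralGroup n, orderOf x = n → ∃ i : ZMod n, x = DihedralGroup.r i := by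
    rintro (i | i) hx
    · exact ⟨i, rfl⟩
    · rw [DihedralGroup.orderOf_sr] at hx; omega
  have : IsCyclic ↥(zpowers (e.symm (DihedralGroup.r 1))) := inferInstance
  refine isPGroup_mulAut_of_cyclic hQ (zpowers (e.symm (DihedralGroup.r 1))) ?_ ?_
  · have h := card_mul_index (zpowers (e.symm (DihedralGroup.r 1)))
    rw [Nat.card_zpowers, MulEquiv.orderOf_eq, DihedralGroup.orderOf_r_one,
      Nat.card_congr e.toEquiv, DihedralGroup.nat_card, mul_comm 2 n] at h
    exact le_of_eq (Nat.eq_of_mul_eq_mul_left (by omega) h)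
  · rintro σ q ⟨i, rfl⟩
    obtain ⟨j, hj⟩ := key (e (σ (e.symm (DihedralGroup.r 1)))) (by
      rw [MulEquiv.orderOf_eq, MulEquiv.orderOf_eq, MulEquiv.orderOf_eq, DihedralGroup.orderOf_r_one])
    have h1 : σ (e.symm (DihedralGroup.r 1)) ∈ zpowers (e.symm (DihedralGroup.r 1)) := by
      refine ⟨(j.val : ℤ), e.injective ?_⟩
      show e (e.symm (DihedralGroup.r 1) ^ (j.val : ℤ)) = _
      rw [map_zpow, e.apply_symm_apply, hj, zpow_natCast, DihedralGroup.r_one_pow, ZMod.natCast_zmod_val]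
    show σ (e.symm (DihedralGroup.r 1) ^ i) ∈ _
    rw [map_zpow]
    exact zpow_mem h1 i

theorem isPGroup_mulAut_quasiDihedral (hQ : IsPGroup 2 Q) (h : Cfsg.IsQuasiDihedral Q) :
    IsPGroup 2 (MulAut Q) := by
  obtain ⟨n, hn, hcard, x, y, hx, hy, hconj⟩ := h
  have hidx : (zpowers x).index = 2 := by
    have h := card_mul_index (zpowers x)
    rw [Nat.card_zpowers, hx, hcard, pow_succ] at h
    exact Nat.eq_of_mul_eq_mul_left (pow_pos two_pos n) h
  have hyR : y ∉ zpowers x := by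
    intro hy'
    obtain ⟨i, hi⟩ := hy'
    have h1 : y * x * y⁻¹ = x := by
      rw [← hi]
      show x ^ i * x * (x ^ i)⁻¹ = x
      rw [((Commute.refl x).zpow_left i).eq, mul_inv_cancel_right]
    rw [h1] at hconj
    have h2 : x ^ 1 = x ^ (2 ^ (n - 1) - 1) := by rw [pow_one]; exact hconj
    rw [pow_eq_pow_iff_modEq, hx] at h2
    have h4 : 2 ^ n = 2 * 2 ^ (n - 1) := by rw [← pow_succ']; congr 1; omega
    have h5 : 4 ≤ 2 ^ (n - 1) := by
      calc 4 = 2 ^ 2 := rfl
        _ ≤ _ := Nat.pow_le_pow_right two_pos (by omega)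
    rw [Nat.ModEq, Nat.mod_eq_of_lt (by omega), Nat.mod_eq_of_lt (by omega)] at h2
    omega
  refine isPGroup_mulAut_of_cyclic hQ (zpowers x) hidx.le ?_
  rintro σ q ⟨i, rfl⟩
  have h1 : σ x ∈ zpowers x := by
    by_contra hsx
    -- elements outside the cyclic subgroup have order at most four
    have hmem : y⁻¹ * σ x ∈ zpowers x :=
      (mul_mem_iff_of_index_two hidx).2 (iff_of_false (fun h => hyR (inv_mem_iff.1 h)) hsx)
    obtain ⟨l, hl⟩ := Submonoid.mem_powers_iff _ _ |>.1 (mem_powers_iff_mem_zpowers.2 hmem)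
    have hsq : σ x * σ x = x ^ (l * 2 ^ (n - 1)) := by
      have hyy : y * y = 1 := by rw [← pow_two, ← hy, pow_orderOf_eq_one]
      have hyi : y⁻¹ = y := inv_eq_of_mul_eq_one_left hyy
      have hs : σ x = y * x ^ l := by rw [hl, mul_inv_cancel_left]
      have h6 : 1 ≤ 2 ^ (n - 1) := Nat.one_le_two_pow
      calc σ x * σ x = (y * x ^ l * y⁻¹) * x ^ l := by rw [hs, hyi]; group
        _ = x ^ ((2 ^ (n - 1) - 1) * l) * x ^ l := by rw [← conj_pow, hconj, ← pow_mul]
        _ = x ^ (l * 2 ^ (n - 1)) := by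
          rw [← pow_add]; congr 1
          rw [← Nat.succ_mul, Nat.succ_eq_add_one, Nat.sub_add_cancel h6, mul_comm]
    have h7 : (σ x) ^ 4 = 1 := by
      rw [show 4 = 2 * 2 from rfl, pow_mul, pow_two (σ x), hsq, ← pow_mul]
      refine orderOf_dvd_iff_pow_eq_one.1 ?_
      rw [hx]
      refine Dvd.intro l ?_
      rw [mul_assoc, ← pow_succ, mul_comm]
      congr 2
      omega
    have h8 := orderOf_dvd_of_pow_eq_one h7
    rw [MulEquiv.orderOf_eq, hx] at h8
    have h9 := Nat.le_of_dvd (by norm_num) h8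
    have h10 : 2 ^ 3 ≤ 2 ^ n := Nat.pow_le_pow_right two_pos hn
    omega
  show σ (x ^ i) ∈ _
  rw [map_zpow]
  exact zpow_mem h1 i

end Cfsg.Lib.DihedralAut
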