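import Mathlib
import Cfsg.Agent.Lib.Solv.Nilpotent
import Cfsg.Agent.Lib.Invol.Quaternion

/-!
# p-groups in which every abelian normal subgroup is cyclic
-/

set_option autoImplicit false

namespace Cfsg.Lib.CyclicNormalAbelian

open Subgroup

variable {P : Type*} [Group P] [Finite P]

theorem conj_pow_rule {a b : P} {k : ℕ} (h : b * a * b⁻¹ = a ^ k) (i : ℕ) : b * a ^ i * b⁻¹ = a ^ (k * i) := by
  rw [← conj_pow, h, ← pow_mul]

/-- No element acts on a maximal cyclic normal subgroup as `a ↦ a ^ (1 + p ^ (m - 1) j)`. -/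
theorem no_small_twist {p : ℕ} [hp : Fact p.Prime]
    (hn : ∀ A : Subgroup P, A.Normal → IsMulCommutative A → IsCyclic A)
    {a : P} (hnorm : ∀ g : P, g * a * g⁻¹ ∈ zpowers a) (hcent : ∀ g : P, g * a = a * g → g ∈ zpowers a)
    {M : ℕ} (ha : orderOf a = p ^ (M + 2)) (hM : p = 2 → 1 ≤ M)
    {b : P} {j : ℕ} (hbj : ¬ p ∣ j) (hbp : b ^ p ∈ zpowers a) (hb : b * a * b⁻¹ = a ^ (1 + p ^ (M + 1) * j)) : False := by
  set h := p ^ (M + 1) with hh
  have hp2 : ∀ {c : ℕ}, p ^ (M + 2) ∣ c → a ^ c = 1 := fun {c} hc => orderOf_dvd_iff_pow_eq_one.1 (ha ▸ hc)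
  set A := zpowers a with hA
  haveI hAn : A.Normal := ⟨fun u hu g => by
    obtain ⟨i, rfl⟩ := hu
    show g * a ^ i * g⁻¹ ∈ A
    rw [← conj_zpow]
    exact A.zpow_mem (hnorm g) i⟩
  have hhh : ∀ c : ℕ, a ^ (h * h * c) = 1 := fun c => hp2 (by
    rw [hh, ← pow_add]
    exact Dvd.dvd.mul_right (pow_dvd_pow p (by omega)) c)
  have hph : ∀ c : ℕ, a ^ (p * h * c) = 1 := fun c => hp2 (by
    rw [hh, ← pow_succ']
    exact Dvd.dvd.mul_right dvd_rfl c)
  -- conjugation by powers of `b`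
  have hbe : ∀ e : ℕ, b ^ e * a * (b ^ e)⁻¹ = a ^ (1 + h * (e * j)) := by
    intro e
    induction e with
    | zero => simp
    | succ e ih =>
      calc b ^ (e + 1) * a * (b ^ (e + 1))⁻¹ = b * (b ^ e * a * (b ^ e)⁻¹) * b⁻¹ := by rw [pow_succ']; group
        _ = a ^ ((1 + h * j) * (1 + h * (e * j))) := by rw [ih, conj_pow_rule hb]
        _ = a ^ (1 + h * ((e + 1) * j)) := by
          rw [show (1 + h * j) * (1 + h * (e * j)) = (1 + h * ((e + 1) * j)) + h * h * (j * (e * j)) by ring, pow_add, hhh, mul_one]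
  have hsum : ∀ (w : P) (l : ℕ), w * a * w⁻¹ = a ^ (1 + h * l) → ∀ i r : ℕ,
      (a ^ i * w) ^ r = a ^ (i * (r + h * (l * r.choose 2))) * w ^ r := by
    intro w l hw i r
    induction r with
    | zero => simp
    | succ r ih =>
      have hc : (r + 1).choose 2 = r.choose 2 + r := by rw [Nat.choose_succ_succ']; simp [Nat.add_comm]
      have h1 : w ^ r * a ^ i * (w ^ r)⁻¹ = a ^ (i * (1 + h * (l * r))) := by
        have h2 : ∀ e : ℕ, w ^ e * a * (w ^ e)⁻¹ = a ^ (1 + h * (l * e)) := by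
          intro e
          induction e with
          | zero => simp
          | succ e ih2 =>
            calc w ^ (e + 1) * a * (w ^ (e + 1))⁻¹ = w * (w ^ e * a * (w ^ e)⁻¹) * w⁻¹ := by rw [pow_succ']; group
              _ = a ^ ((1 + h * l) * (1 + h * (l * e))) := by rw [ih2, conj_pow_rule hw]
              _ = a ^ (1 + h * (l * (e + 1))) := by
                rw [show (1 + h * l) * (1 + h * (l * e)) = (1 + h * (l * (e + 1))) + h * h * (l * (l * e)) by ring, pow_add, hhh, mul_one]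
        rw [← conj_pow, h2, ← pow_mul, Nat.mul_comm]
      calc (a ^ i * w) ^ (r + 1) = a ^ (i * (r + h * (l * r.choose 2))) * (w ^ r * a ^ i * (w ^ r)⁻¹) * w ^ (r + 1) := by
            rw [pow_succ, ih]; rw [pow_succ]; group
        _ = _ := by rw [h1, ← pow_add, hc]; congr 2; ring
  -- the exponent `p + h l (p choose 2)` is `p` times a unit
  have hd : ∀ l : ℕ, ∃ d : ℕ, ¬ p ∣ d ∧ ∀ i : ℕ, a ^ (i * (p + h * (l * p.choose 2))) = a ^ (i * (p * d)) := by
    intro l
    rcases hp.out.eq_two_or_odd' with h2 | hodd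
    · refine ⟨1 + p ^ M * l, ?_, fun i => ?_⟩
      · intro hdvd
        exact hp.out.not_dvd_one ((Nat.dvd_add_left (Dvd.dvd.mul_right (dvd_pow_self p (by have := hM h2; omega)) l)).1 hdvd)
      · congr 1
        rw [hh, h2, Nat.choose_self, pow_succ]; ring
    · refine ⟨1, hp.out.not_dvd_one, fun i => ?_⟩
      have hdvd : p ∣ p.choose 2 := hp.out.dvd_choose_self (by norm_num) (by
        obtain ⟨q, hq⟩ := hodd; have := hp.out.two_le; omega)
      obtain ⟨q, hq⟩ := hdvd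
      rw [hq, show i * (p + h * (l * (p * q))) = i * (p * 1) + p * h * (i * (l * q)) by ring, pow_add, hph, mul_one]
  -- `b` can be chosen of order `p`
  obtain ⟨l0, hl0⟩ : ∃ l : ℕ, a ^ l = b ^ p := by
    rw [hA, ← mem_powers_iff_mem_zpowers, Submonoid.mem_powers_iff] at hbp
    exact hbp
  have hl0p : p ∣ l0 := by
    have e1 : b * a ^ l0 * b⁻¹ = a ^ l0 := by rw [hl0]; group
    rw [conj_pow_rule hb, show (1 + h * j) * l0 = l0 + h * (j * l0) by ring, pow_add, mul_eq_left, ← orderOf_dvd_iff_pow_eq_one,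
      ha, pow_succ] at e1
    have e2 := Nat.dvd_of_mul_dvd_mul_left (pow_pos hp.out.pos (M + 1)) e1
    exact (hp.out.dvd_mul.1 e2).resolve_left hbj
  obtain ⟨s, rfl⟩ := hl0p
  obtain ⟨d, hd1, hd2⟩ := hd j
  obtain ⟨t, ht⟩ : ∃ t : ℕ, a ^ (t * (p * d) + p * s) = 1 := by
    have hcop : Nat.Coprime d (p ^ (M + 1)) := ((hp.out.coprime_iff_not_dvd.2 hd1).symm).pow_right _
    obtain ⟨d', -, hd'⟩ := Nat.exists_mul_mod_eq_one_of_coprime hcop (Nat.one_lt_pow (by omega) hp.out.one_lt)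
    refine ⟨d' * ((p ^ (M + 1) - 1) * s), hp2 ?_⟩
    have e : d' * ((p ^ (M + 1) - 1) * s) * (p * d) + p * s = p * ((d * d') * ((p ^ (M + 1) - 1) * s) + s) := by ring
    rw [e, pow_succ']
    refine Nat.mul_dvd_mul_left p (Nat.dvd_of_mod_eq_zero ?_)
    rw [Nat.add_mod, Nat.mul_mod, hd', one_mul, Nat.mod_mod, ← Nat.add_mod, ← Nat.succ_mul,
      Nat.succ_eq_add_one, Nat.sub_add_cancel (Nat.one_le_pow _ _ hp.out.pos), Nat.mul_mod_right]
  set b' := a ^ t * b with hb'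
  have hb'p : b' ^ p = 1 := by rw [hb', hsum b j hb, hd2, ← hl0, ← pow_add, ht]
  have hb'a : b' * a * b'⁻¹ = a ^ (1 + h * j) := by
    calc b' * a * b'⁻¹ = a ^ t * (b * a * b⁻¹) * (a ^ t)⁻¹ := by rw [hb']; group
      _ = a ^ (1 + h * j) := by rw [hb, ← pow_add, Nat.add_comm, pow_add, mul_inv_cancel_right]
  have hb'A : b' ∉ A := by
    rintro ⟨i, hi⟩
    have hi' : a ^ i = b' := hi
    rw [← hi', ((Commute.refl a).zpow_left i).eq, mul_inv_cancel_right, pow_add, pow_one, left_eq_mul,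
      ← orderOf_dvd_iff_pow_eq_one, ha, pow_succ] at hb'a
    exact hbj (Nat.dvd_of_mul_dvd_mul_left (pow_pos hp.out.pos (M + 1)) hb'a)
  -- everything containing `A` is normal
  have hexp : ∀ g : P, ∃ k : ℕ, g * a * g⁻¹ = a ^ k := fun g => by
    have := hnorm g
    rw [← mem_powers_iff_mem_zpowers, Submonoid.mem_powers_iff] at this
    obtain ⟨k, hk⟩ := this
    exact ⟨k, hk.symm⟩
  have hcommA : ∀ g w : P, g * w * g⁻¹ * w⁻¹ ∈ A := by
    intro g w
    apply hcent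
    obtain ⟨k, hk⟩ := hexp g
    obtain ⟨l, hl⟩ := hexp w
    have e1 : ∀ g w : P, ∀ k l : ℕ, g * a * g⁻¹ = a ^ k → w * a * w⁻¹ = a ^ l → g * w * a * (g * w)⁻¹ = a ^ (k * l) := by
      intro g w k l hk hl
      calc g * w * a * (g * w)⁻¹ = g * (w * a * w⁻¹) * g⁻¹ := by group
        _ = a ^ (k * l) := by rw [hl, conj_pow_rule hk]
    have e3 : g * w * a * (g * w)⁻¹ = w * g * a * (w * g)⁻¹ := by
      rw [e1 g w k l hk hl, e1 w g l k hl hk, Nat.mul_comm]
    calc g * w * g⁻¹ * w⁻¹ * a = (g * w) * ((w * g)⁻¹ * a * (w * g)) * (g * w)⁻¹ * (g * w * g⁻¹ * w⁻¹) := by group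
      _ = a * (g * w * g⁻¹ * w⁻¹) := by
        have hc : ∀ u : P, (g * w) * u * (g * w)⁻¹ = (w * g) * u * (w * g)⁻¹ → True := fun _ _ => trivial
        obtain ⟨i, hi⟩ : ∃ i : ℕ, (w * g)⁻¹ * a * (w * g) = a ^ i := by
          obtain ⟨i, hi⟩ := hexp (w * g)⁻¹
          exact ⟨i, by rw [← hi, inv_inv]⟩
        rw [hi, ← conj_pow, e3, conj_pow, ← hi]
        group
  set z := a ^ h with hz
  have hz1 : z ^ p = 1 := by rw [hz, ← pow_mul, Nat.mul_comm, ← mul_one (p * h), hph]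
  have hzb : b' * z = z * b' := by
    rw [← mul_inv_eq_iff_eq_mul, hz, conj_pow_rule hb'a, show (1 + h * j) * h = h + h * h * j by ring, pow_add, hhh, mul_one]
  set W := closure ({z, b'} : Set P) with hW
  have hWc : IsMulCommutative W := by
    refine ⟨⟨fun u v => Subtype.ext ?_⟩⟩
    have hle : W ≤ centralizer (W : Set P) := by
      rw [hW, centralizer_closure, closure_le]
      rintro x (rfl | rfl) <;> rw [SetLike.mem_coe, mem_centralizer_iff] <;> rintro y (rfl | rfl)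
      · rfl
      · exact hzb
      · exact hzb.symm
      · rfl
    exact mem_centralizer_iff.1 (hle v.2) u u.2
  haveI hWn : W.Normal := by
    -- conjugates of the generators lie in `W`
    have hgen : ∀ g : P, ∀ x ∈ ({z, b'} : Set P), g * x * g⁻¹ ∈ W := by
      intro g x hx
      have hpx : (g * x * g⁻¹) ^ p = 1 := by
        rcases hx with rfl | rfl
        · rw [conj_pow, hz1, mul_one, mul_inv_cancel]
        · rw [conj_pow, hb'p, mul_one, mul_inv_cancel]
      rcases hx with rfl | rfl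
      · obtain ⟨k, hk⟩ := hexp g
        rw [hz, conj_pow_rule hk, Nat.mul_comm, pow_mul]
        exact pow_mem (subset_closure (show a ^ h ∈ ({z, b'} : Set P) from Or.inl rfl)) k
      · have hm := hcommA g b'
        rw [hA, ← mem_powers_iff_mem_zpowers, Submonoid.mem_powers_iff] at hm
        obtain ⟨i, hi⟩ := hm
        have hgb : g * b' * g⁻¹ = a ^ i * b' := by rw [hi]; group
        rw [hgb, hsum b' j hb'a, hd2, hb'p, mul_one, ← orderOf_dvd_iff_pow_eq_one, ha, pow_succ', Nat.mul_left_comm] at hpx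
        have e2 := Nat.dvd_of_mul_dvd_mul_left hp.out.pos hpx
        obtain ⟨c, hc⟩ := (((hp.out.coprime_iff_not_dvd.2 hd1).pow_left (M + 1)).dvd_of_dvd_mul_right e2)
        rw [hgb, hc, pow_mul]
        exact mul_mem (pow_mem (subset_closure (by simp [hz, hh])) c) (subset_closure (by simp))
    refine ⟨fun x hx g => ?_⟩
    have hle : W ≤ W.comap (MulAut.conj g).toMonoidHom := by
      rw [hW, closure_le]
      intro y hy
      exact hgen g y hy
    exact hle hx
  haveI hcyc := hn W hWn hWc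
  have hzo : orderOf z = p := orderOf_eq_prime hz1 (pow_ne_one_of_lt_orderOf (pow_pos hp.out.pos _).ne' (by
    rw [ha]; exact Nat.pow_lt_pow_right hp.out.one_lt (by omega)))
  have hbo : orderOf b' = p := orderOf_eq_prime hb'p fun e => hb'A (e ▸ A.one_mem)
  have e1 := Cfsg.Lib.Invol.zpowers_eq_of_cyclic (x := (⟨b', subset_closure (by simp)⟩ : W))
    (y := ⟨z, subset_closure (by simp)⟩) (by rw [orderOf_mk, orderOf_mk, hbo, hzo])
  have e2 := congrArg (Subgroup.map W.subtype) e1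
  rw [MonoidHom.map_zpowers, MonoidHom.map_zpowers] at e2
  have e3 : zpowers b' = zpowers z := e2
  exact hb'A (zpowers_le.2 (npow_mem_zpowers a h) (e3 ▸ mem_zpowers b'))


/-- A non-cyclic `p`-group whose abelian normal subgroups are cyclic is a `2`-group with a cyclic subgroup of
index `2` on which every outside element acts as `a ↦ a ^ k`, `k ≡ -1` modulo half the order. -/
theorem two_group_data {P : Type*} [Group P] [Finite P] (p : ℕ) [Fact p.Prime]
    (hP : IsPGroup p P) (hn : ∀ A : Subgroup P, A.Normal → IsMulCommutative A → IsCyclic A) (hnc : ¬ IsCyclic P) :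
    p = 2 ∧ ∃ (a : P) (M : ℕ), orderOf a = 2 ^ (M + 2) ∧ (zpowers a).index = 2 ∧ ∀ g : P, g ∉ zpowers a →
      g ^ 2 ∈ zpowers a ∧ ∃ k : ℕ, g * a * g⁻¹ = a ^ k ∧ ((2 ^ (M + 1) : ℕ) : ℤ) ∣ (k : ℤ) + 1 ∧ k % 4 = 3 := by
  classical
  have hpp : p.Prime := Fact.out
  haveI := hP.isNilpotent
  obtain ⟨A, -, hmax⟩ := Finite.exists_le_maximal (p := fun N : Subgroup P => N.Normal ∧ IsMulCommutative N)
    (show (⊥ : Subgroup P).Normal ∧ IsMulCommutative (⊥ : Subgroup P) from ⟨inferInstance, inferInstance⟩)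
  haveI := hmax.1.1
  haveI := hmax.1.2
  have hcentA := Cfsg.Lib.Solv.centralizer_eq_of_maximal_abelian_normal A fun M hM hMc hle =>
    le_antisymm (hmax.2 ⟨hM, hMc⟩ hle) hle
  haveI := hn A hmax.1.1 hmax.1.2
  obtain ⟨a, haeq⟩ : ∃ a, zpowers a = A := by
    obtain ⟨g, hg⟩ := IsCyclic.exists_generator (α := A)
    refine ⟨g, le_antisymm (zpowers_le.2 g.2) fun u hu => ?_⟩
    obtain ⟨i, hi⟩ := hg ⟨u, hu⟩
    exact ⟨i, congrArg Subtype.val hi⟩
  subst haeq
  have hnorm : ∀ g : P, g * a * g⁻¹ ∈ zpowers a := fun g => hmax.1.1.conj_mem a (mem_zpowers a) g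
  have hcent : ∀ g : P, g * a = a * g → g ∈ zpowers a := fun g hg => hcentA ▸ mem_centralizer_iff.2 (by
    rintro _ ⟨i, rfl⟩
    exact ((show Commute g a from hg).zpow_right i).eq.symm)
  obtain ⟨m, hma⟩ := IsPGroup.iff_orderOf.1 hP a
  have hPA : ¬ (⊤ : Subgroup P) ≤ zpowers a := fun h => hnc (isCyclic_of_surjective (zpowers a).subtype fun x => ⟨⟨x, h (mem_top x)⟩, rfl⟩)
  have hexp : ∀ g : P, ∃ k : ℕ, g * a * g⁻¹ = a ^ k := fun g => by
    have := hnorm g
    rw [← mem_powers_iff_mem_zpowers, Submonoid.mem_powers_iff] at this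
    obtain ⟨k, hk⟩ := this
    exact ⟨k, hk.symm⟩
  -- `g ^ p ∈ A` and `g ∉ A` force a unit of order `p`
  have houts : ∀ g : P, g ∉ zpowers a → ∃ c : ℕ, g ^ p ^ c ∉ zpowers a ∧ (g ^ p ^ c) ^ p ∈ zpowers a := by
    intro g hg
    obtain ⟨e, he⟩ := hP g
    have hex : ∃ c, g ^ p ^ c ∈ zpowers a := ⟨e, he ▸ one_mem _⟩
    have hf := Nat.find_spec hex
    rcases hc : Nat.find hex with _ | c
    · rw [hc, pow_zero, pow_one] at hf; exact absurd hf hg
    · refine ⟨c, Nat.find_min hex (by omega), ?_⟩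
      rw [← pow_mul, ← pow_succ, ← hc]; exact hf
  have hkp : ∀ (g : P) (k : ℕ), g * a * g⁻¹ = a ^ k → ∀ e : ℕ, g ^ e * a * (g ^ e)⁻¹ = a ^ (k ^ e) := by
    intro g k hk e
    induction e with
    | zero => simp
    | succ e ih =>
      calc g ^ (e + 1) * a * (g ^ (e + 1))⁻¹ = g * (g ^ e * a * (g ^ e)⁻¹) * g⁻¹ := by rw [pow_succ']; group
        _ = a ^ (k ^ (e + 1)) := by rw [ih, conj_pow_rule hk, pow_succ']
  obtain ⟨g0, -, hg0⟩ := SetLike.not_le_iff_exists.1 hPA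
  obtain ⟨c0, hc0, hc0'⟩ := houts g0 hg0
  have hm2 : 2 ≤ m := by
    by_contra hlt
    obtain ⟨k, hk⟩ := hexp (g0 ^ p ^ c0)
    rcases (show m = 0 ∨ m = 1 by omega) with rfl | rfl
    · rw [pow_zero, orderOf_eq_one_iff] at hma
      exact hc0 (hcent _ (by rw [hma, mul_one, one_mul]))
    · rw [pow_one] at hma
      apply hc0
      refine hcent _ (mul_inv_eq_iff_eq_mul.1 ?_)
      -- k ^ p ≡ k mod p
      have e1 : a ^ (k ^ p) = a := by
        rw [← hkp _ k hk p]
        obtain ⟨i, hi⟩ := hc0'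
        simp only at hi
        rw [← hi, ((Commute.refl a).zpow_left i).eq, mul_inv_cancel_right]
      have e2 : a ^ k = a ^ (k ^ p) := by
        rw [pow_inj_mod, hma]
        have : ((k ^ p : ℕ) : ZMod p) = (k : ZMod p) := by push_cast; exact ZMod.pow_card _
        exact ((ZMod.natCast_eq_natCast_iff' _ _ _).1 this).symm
      rw [hk, e2, e1]
  obtain ⟨M, rfl⟩ : ∃ M, m = M + 2 := ⟨m - 2, by omega⟩
  rcases hpp.eq_two_or_odd' with h2 | hodd
  swap
  · exfalso
    obtain ⟨k, hk⟩ := hexp (g0 ^ p ^ c0)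
    haveI : NeZero (p ^ (M + 2)) := ⟨(pow_pos hpp.pos _).ne'⟩
    have hkp1 : (k : ZMod (p ^ (M + 2))) ^ p = 1 := by
      have e1 : a ^ (k ^ p) = a ^ 1 := by
        rw [← hkp _ k hk p, pow_one]
        obtain ⟨i, hi⟩ := hc0'
        simp only at hi
        rw [← hi, ((Commute.refl a).zpow_left i).eq, mul_inv_cancel_right]
      rw [pow_inj_mod, hma, ← ZMod.natCast_eq_natCast_iff'] at e1
      push_cast at e1; exact e1
    haveI : IsCyclic (ZMod (p ^ (M + 2)))ˣ := ZMod.isCyclic_units_of_prime_pow p hpp (fun h => by subst h; exact Nat.not_odd_iff_even.2 even_two hodd) (M + 2)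
    set h := p ^ (M + 1) with hh
    have hzero : ∀ c : ℕ, ((p * h * c : ℕ) : ZMod (p ^ (M + 2))) = 0 := fun c => by
      rw [ZMod.natCast_eq_zero_iff, hh, ← pow_succ']; exact dvd_mul_right _ _
    have hsq : ∀ c : ℕ, ((h * h * c : ℕ) : ZMod (p ^ (M + 2))) = 0 := fun c => by
      rw [ZMod.natCast_eq_zero_iff, hh, ← pow_add]; exact Dvd.dvd.mul_right (pow_dvd_pow p (by omega)) c
    have hpow : ∀ (j e : ℕ), ((1 + h * j : ℕ) : ZMod (p ^ (M + 2))) ^ e = ((1 + h * (e * j) : ℕ) : ZMod (p ^ (M + 2))) := by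
      intro j e
      induction e with
      | zero => simp
      | succ e ih =>
        rw [pow_succ ((1 + h * j : ℕ) : ZMod (p ^ (M + 2))) e, ih, ← Nat.cast_mul, show (1 + h * (e * j)) * (1 + h * j) = (1 + h * ((e + 1) * j)) + h * h * (e * j * j) by ring,
          Nat.cast_add, hsq, add_zero]
    have hpp1 : ∀ j : ℕ, ((1 + h * j : ℕ) : ZMod (p ^ (M + 2))) ^ p = 1 := fun j => by
      rw [hpow, show 1 + h * (p * j) = 1 + p * h * j by ring, Nat.cast_add, hzero, add_zero, Nat.cast_one]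
    let f : Fin p → {u : (ZMod (p ^ (M + 2)))ˣ // u ^ p = 1} := fun j =>
      ⟨Units.ofPowEqOne _ p (hpp1 j) hpp.ne_zero, Units.pow_ofPowEqOne _ _⟩
    have hfinj : Function.Injective f := by
      intro i j hij
      have e : ((1 + h * (i : ℕ) : ℕ) : ZMod (p ^ (M + 2))) = ((1 + h * (j : ℕ) : ℕ) : ZMod (p ^ (M + 2))) :=
        congrArg (fun u : {u : (ZMod (p ^ (M + 2)))ˣ // u ^ p = 1} => ((u : (ZMod (p ^ (M + 2)))ˣ) : ZMod (p ^ (M + 2)))) hij
      rw [ZMod.natCast_eq_natCast_iff', Nat.mod_eq_of_lt, Nat.mod_eq_of_lt] at e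
      · exact Fin.ext (Nat.eq_of_mul_eq_mul_left (pow_pos hpp.pos _) (Nat.add_left_cancel e))
      all_goals
        rw [hh, pow_succ p (M + 1)]
        have h1 : 1 ≤ p ^ (M + 1) - 1 := by
          have := Nat.le_self_pow (show M + 1 ≠ 0 by omega) p; have := hpp.two_le; omega
        have h0 := pow_pos hpp.pos (M + 1)
        have hi2 := Nat.mul_le_mul_left (p ^ (M + 1)) (show (i : ℕ) + 1 ≤ p from i.2)
        have hj2 := Nat.mul_le_mul_left (p ^ (M + 1)) (show (j : ℕ) + 1 ≤ p from j.2)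
        rw [mul_add, mul_one] at hi2 hj2
        omega
    have hcard : Nat.card {u : (ZMod (p ^ (M + 2)))ˣ // u ^ p = 1} ≤ Nat.card (Fin p) := by
      have := IsCyclic.card_pow_eq_one_le (α := (ZMod (p ^ (M + 2)))ˣ) hpp.pos
      rw [Nat.card_fin, Nat.card_eq_fintype_card, Fintype.card_subtype]
      exact this
    have hsurj := ((Nat.bijective_iff_injective_and_card f).2 ⟨hfinj, le_antisymm (Nat.card_le_card_of_injective f hfinj) hcard⟩).2
    obtain ⟨j, hj⟩ := hsurj ⟨Units.ofPowEqOne _ p hkp1 hpp.ne_zero, Units.pow_ofPowEqOne _ _⟩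
    have e : ((1 + h * (j : ℕ) : ℕ) : ZMod (p ^ (M + 2))) = (k : ZMod (p ^ (M + 2))) :=
      congrArg (fun u : {u : (ZMod (p ^ (M + 2)))ˣ // u ^ p = 1} => ((u : (ZMod (p ^ (M + 2)))ˣ) : ZMod (p ^ (M + 2)))) hj
    rw [ZMod.natCast_eq_natCast_iff'] at e
    have hak : a ^ k = a ^ (1 + h * (j : ℕ)) := by rw [pow_inj_mod, hma, e]
    by_cases hj0 : (j : ℕ) = 0
    · rw [hj0, mul_zero, add_zero, pow_one] at hak
      exact hc0 (hcent _ (mul_inv_eq_iff_eq_mul.1 (hk.trans hak)))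
    · exact no_small_twist hn hnorm hcent hma (fun h => absurd h (fun h => by subst h; exact Nat.not_odd_iff_even.2 even_two hodd))
        (fun hd => absurd (Nat.le_of_dvd (Nat.pos_of_ne_zero hj0) hd) (by omega)) hc0' (hk.trans hak)
  subst h2
  set N := 2 ^ (M + 2) with hN
  set h := 2 ^ (M + 1) with hh
  have hNh : N = 2 * h := by rw [hN, hh, ← pow_succ']
  have ha2 : ∀ i j : ℤ, a ^ i = a ^ j ↔ (N : ℤ) ∣ j - i := fun i j => by
    rw [zpow_eq_zpow_iff_modEq, hma, Int.modEq_iff_dvd]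
  -- exponents squaring to one
  have hsqone : ∀ k : ℕ, (N : ℤ) ∣ (k : ℤ) * k - 1 → (h : ℤ) ∣ (k : ℤ) - 1 ∨ (h : ℤ) ∣ (k : ℤ) + 1 := by
    intro k hk
    have hodd : ¬ (2 : ℤ) ∣ (k : ℤ) := fun h2 => by
      have h4 : (2 : ℤ) ∣ (k : ℤ) * k - 1 := (Dvd.intro (2 ^ (M + 1)) (by rw [hN]; push_cast; ring)).trans hk
      have := (Int.dvd_iff_emod_eq_zero.1 h4)
      have h5 : (2 : ℤ) ∣ (k : ℤ) * k := Dvd.dvd.mul_right h2 _
      omega
    obtain ⟨q, hq⟩ : ∃ q : ℤ, (k : ℤ) = 2 * q + 1 := ⟨(k : ℤ) / 2, by omega⟩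
    have e : (k : ℤ) * k - 1 = 4 * (q * (q + 1)) := by rw [hq]; ring
    have hd : (2 : ℤ) ^ M ∣ q * (q + 1) := by
      obtain ⟨c, hc⟩ := hk
      refine ⟨c, mul_left_cancel₀ (by norm_num : (4 : ℤ) ≠ 0) ?_⟩
      rw [← e, hc, hN]; push_cast; ring
    rcases Int.even_or_odd q with ⟨r, hr⟩ | ⟨r, hr⟩
    · left
      have : IsCoprime ((2 : ℤ) ^ M) (q + 1) := IsCoprime.pow_left ⟨-r, 1, by rw [hr]; ring⟩
      obtain ⟨c, hc⟩ := this.dvd_of_dvd_mul_right hd
      exact ⟨c, by rw [hq, hc, hh]; push_cast; ring⟩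
    · right
      have : IsCoprime ((2 : ℤ) ^ M) q := IsCoprime.pow_left ⟨-r, 1, by rw [hr]; ring⟩
      obtain ⟨c, hc⟩ := this.dvd_of_dvd_mul_left hd
      exact ⟨c, by rw [hq, show 2 * q + 1 + 1 = 2 * (q + 1) by ring, hc, hh]; push_cast; ring⟩
  have hsq : ∀ w : P, w ∉ zpowers a → w ^ 2 ∈ zpowers a → ∀ k : ℕ, w * a * w⁻¹ = a ^ k → (h : ℤ) ∣ (k : ℤ) + 1 := by
    intro w hw hw2 k hk
    have e1 : a ^ (k ^ 2) = a := by
      rw [← hkp w k hk 2]
      obtain ⟨i, hi⟩ := hw2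
      simp only at hi
      rw [← hi, ((Commute.refl a).zpow_left i).eq, mul_inv_cancel_right]
    have e2 : (N : ℤ) ∣ (k : ℤ) * k - 1 := by
      have : a ^ ((1 : ℤ)) = a ^ ((k : ℤ) * k) := by
        rw [zpow_one, ← Nat.cast_mul, zpow_natCast, ← pow_two, e1]
      exact (ha2 _ _).1 this
    rcases hsqone k e2 with h1 | h1
    · by_contra hne
      obtain ⟨c, hc⟩ := h1
      have hak : ∀ c' : ℤ, (2 : ℤ) ∣ c - c' → a ^ k = a ^ (1 + (h : ℤ) * c') := fun c' ⟨d, hd⟩ => by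
        rw [← zpow_natCast, ha2]
        exact ⟨-d, by rw [hNh]; push_cast; linear_combination (-(h : ℤ)) * hd - hc⟩
      rcases Int.even_or_odd c with ⟨d, hd⟩ | ⟨d, hd⟩
      · have := hak 0 ⟨d, by omega⟩
        rw [mul_zero, add_zero, zpow_one] at this
        exact hw (hcent _ (mul_inv_eq_iff_eq_mul.1 (hk.trans this)))
      · rcases Nat.eq_zero_or_pos M with hM | hM
        · exact hne ⟨c + 1, by
            have : ((h : ℕ) : ℤ) = 2 := by rw [hh, hM]; norm_num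
            rw [this] at hc ⊢; linarith⟩
        · have h1' := hak 1 ⟨d, by omega⟩
          rw [mul_one, show (1 : ℤ) + (h : ℤ) = ((1 + h * 1 : ℕ) : ℤ) by push_cast; ring, zpow_natCast] at h1'
          exact no_small_twist hn hnorm hcent hma (fun _ => hM) (by norm_num) hw2 (hk.trans h1')
    · exact h1
  have hact : ∀ g : P, g ∉ zpowers a → g ^ 2 ∈ zpowers a := by
    intro g hg
    obtain ⟨c, hc, hc'⟩ := houts g hg
    rcases c with _ | c
    · rw [pow_zero, pow_one] at hc'; exact hc'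
    · exfalso
      obtain ⟨k, hk⟩ := hexp (g ^ 2 ^ c)
      have hw : (g ^ 2 ^ c) ^ 2 = g ^ 2 ^ (c + 1) := by rw [← pow_mul, ← pow_succ]
      have h2 := hkp _ k hk 2
      rw [hw] at h2
      have h3 := hsq _ hc hc' _ h2
      push_cast at h3
      rcases Nat.eq_zero_or_pos M with hM | hM
      · apply hc
        refine hcent _ (mul_inv_eq_iff_eq_mul.1 (h2.trans ?_))
        conv_rhs => rw [← pow_one a]
        rw [pow_inj_mod, hma, hN, hM]
        have h4 : (k : ℤ) % 2 = 1 := by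
          rcases Int.emod_two_eq_zero_or_one (k : ℤ) with h5 | h5
          · exfalso
            have h6 : (2 : ℤ) ∣ (k : ℤ) ^ 2 := dvd_pow (Int.dvd_of_emod_eq_zero h5) two_ne_zero
            have h7 : (2 : ℤ) ∣ (k : ℤ) ^ 2 + 1 := by rw [hh, hM] at h3; simpa using h3
            omega
          · exact h5
        obtain ⟨q, rfl⟩ : ∃ q, k = 2 * q + 1 := ⟨k / 2, by omega⟩
        have : (2 * q + 1) ^ 2 = 4 * (q * q + q) + 1 := by ring
        rw [this]
        norm_num [Nat.add_mod, Nat.mul_mod]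
      · have h4 : (4 : ℤ) ∣ (h : ℤ) := ⟨2 ^ (M - 1), by
          rw [hh]; push_cast; rw [show M + 1 = (M - 1) + 2 by omega, pow_add]; ring⟩
        have h5 := Int.dvd_iff_emod_eq_zero.1 (h4.trans h3)
        rcases Int.even_or_odd (k : ℤ) with ⟨q, hq⟩ | ⟨q, hq⟩
        · rw [hq, show (q + q) ^ 2 = 4 * (q * q) by ring] at h5; omega
        · rw [hq, show (2 * q + 1) ^ 2 = 4 * (q * q + q) + 1 by ring] at h5; omega
  have hprod : ∀ g g' : P, g ∉ zpowers a → g' ∉ zpowers a → g * g' ∈ zpowers a := by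
    intro g g' hg hg'
    by_contra hgg
    obtain ⟨k, hk⟩ := hexp g
    obtain ⟨l, hl⟩ := hexp g'
    have hkl : g * g' * a * (g * g')⁻¹ = a ^ (k * l) := by
      calc g * g' * a * (g * g')⁻¹ = g * (g' * a * g'⁻¹) * g⁻¹ := by group
        _ = a ^ (k * l) := by rw [hl, conj_pow_rule hk]
    have d1 := hsq g hg (hact g hg) k hk
    have d2 := hsq g' hg' (hact g' hg') l hl
    have d3 := hsq _ hgg (hact _ hgg) _ hkl
    push_cast at d3
    have d4 : (h : ℤ) ∣ 2 := by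
      have := dvd_add (dvd_sub d3 (d1.mul_right (l : ℤ))) d2
      have e : (k : ℤ) * l + 1 - ((k : ℤ) + 1) * l + ((l : ℤ) + 1) = 2 := by ring
      rw [e] at this; exact this
    have hM : M = 0 := by
      by_contra hM
      have := Int.le_of_dvd (by norm_num) d4
      rw [hh] at this; push_cast at this
      have h22 : (2 : ℤ) ^ 2 ≤ 2 ^ (M + 1) := pow_le_pow_right₀ (by norm_num) (by omega)
      omega
    have hmod : ∀ (w : P) (i : ℕ), w ∉ zpowers a → w * a * w⁻¹ = a ^ i → i % 4 ≠ 1 := fun w i hw hi hc => by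
      refine hw (hcent _ (mul_inv_eq_iff_eq_mul.1 (hi.trans ?_)))
      conv_rhs => rw [← pow_one a]
      rw [pow_inj_mod, hma, hN, hM]; simpa using hc
    have h1 := hmod g k hg hk
    have h2 := hmod g' l hg' hl
    have h3 := hmod _ _ hgg hkl
    rw [hh, hM] at d1 d2
    push_cast at d1 d2
    have e1 : k % 4 = 3 := by omega
    have e2 : l % 4 = 3 := by omega
    rw [Nat.mul_mod, e1, e2] at h3
    exact h3 (by norm_num)
  have hg0' : g0 ^ 2 ∈ zpowers a := hact g0 hg0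
  have hidx : (zpowers a).index = 2 := by
    rw [Subgroup.index_eq_two_iff]
    refine ⟨g0, fun x => ?_⟩
    by_cases hx : x ∈ zpowers a
    · exact Or.inr ⟨hx, fun h' => hg0 ((Subgroup.mul_mem_cancel_left _ hx).1 h')⟩
    · exact Or.inl ⟨hprod x g0 hx hg0, hx⟩
  have hcardP : Nat.card P = 2 * N := by
    rw [← (zpowers a).card_mul_index, hidx, Nat.card_zpowers, hma]
    ring
  refine ⟨rfl, a, M, hma, hidx, fun g hg => ⟨hact g hg, ?_⟩⟩
  obtain ⟨k, hk⟩ := hexp g
  have d1 := hsq g hg (hact g hg) k hk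
  refine ⟨k, hk, d1, ?_⟩
  rcases Nat.eq_zero_or_pos M with hM | hM
  · have hne : k % 4 ≠ 1 := fun hc => by
      refine hg (hcent _ (mul_inv_eq_iff_eq_mul.1 (hk.trans ?_)))
      conv_rhs => rw [← pow_one a]
      rw [pow_inj_mod, hma, hN, hM]; simpa using hc
    rw [hh, hM] at d1
    push_cast at d1
    omega
  · have h4 : (4 : ℤ) ∣ (h : ℤ) := ⟨2 ^ (M - 1), by
      rw [hh]; push_cast; rw [show M + 1 = (M - 1) + 2 by omega, pow_add]; ring⟩
    have := h4.trans d1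
    omega

end Cfsg.Lib.CyclicNormalAbelian
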