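import Cfsg.Agent.Lib.Core.Layer

/-!
# A perfect central extension of a quasisimple group is quasisimple
-/

set_option autoImplicit false

namespace Cfsg.Lib.Core

open scoped commutatorElement

theorem quasisimple_of_central {K H : Type*} [Group K] [Group H] {f : K →* H}
    (hf : Function.Surjective f) (hK : Group.IsPerfect K) (hker : f.ker ≤ Subgroup.center K)
    (hH : Cfsg.IsQuasisimple H) : Cfsg.IsQuasisimple K := by
  refine ⟨hK, ?_⟩
  let g : K →* H ⧸ Subgroup.center H := (QuotientGroup.mk' (Subgroup.center H)).comp f
  have hg : Function.Surjective g := (QuotientGroup.mk'_surjective _).comp hf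
  have hgk : g.ker = Subgroup.center K := by
    refine le_antisymm (fun x hx => ?_) (fun x hx => ?_)
    · have hfx : f x ∈ Subgroup.center H := (QuotientGroup.eq_one_iff _).1 hx
      have hc : ∀ k : K, ⁅x, k⁆ ∈ Subgroup.center K := fun k => hker (by
        rw [MonoidHom.mem_ker, map_commutatorElement, commutatorElement_eq_one_iff_mul_comm]
        exact (Subgroup.mem_center_iff.1 hfx (f k)).symm)
      let φ : K →* Subgroup.center K :=
        { toFun := fun k => ⟨⁅x, k⁆, hc k⟩
          map_one' := Subtype.ext (commutatorElement_one_right x)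
          map_mul' := fun a b => Subtype.ext (by
            show ⁅x, a * b⁆ = ⁅x, a⁆ * ⁅x, b⁆
            rw [show ⁅x, a * b⁆ = ⁅x, a⁆ * (a * ⁅x, b⁆ * a⁻¹) by
              simp [commutatorElement_def, mul_assoc]]
            rw [Subgroup.mem_center_iff.1 (hc b) a, mul_inv_cancel_right]) }
      have hφ : (⊤ : Subgroup K) ≤ φ.ker := by
        rw [← (Group.isPerfect_def.1 hK : commutator K = ⊤)]
        rw [commutator_def, Subgroup.commutator_le]
        intro a _ b _
        rw [MonoidHom.mem_ker, map_commutatorElement, commutatorElement_eq_one_iff_mul_comm]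
        exact Subtype.ext (Subgroup.mem_center_iff.1 (φ b).2 (φ a : K))
      rw [Subgroup.mem_center_iff]
      intro k
      have hk := congrArg Subtype.val (hφ (Subgroup.mem_top k))
      exact (commutatorElement_eq_one_iff_mul_comm.1 hk).symm
    · refine (QuotientGroup.eq_one_iff _).2 (Subgroup.mem_center_iff.2 fun y => ?_)
      obtain ⟨k, rfl⟩ := hf y
      rw [← map_mul, ← map_mul, Subgroup.mem_center_iff.1 hx k]
  have e : K ⧸ Subgroup.center K ≃* H ⧸ Subgroup.center H :=
    (QuotientGroup.quotientMulEquivOfEq hgk.symm).trans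
      (QuotientGroup.quotientKerEquivOfSurjective g hg)
  have := hH.2
  have : Nontrivial (K ⧸ Subgroup.center K) := e.toEquiv.nontrivial
  exact IsSimpleGroup.isSimpleGroup_of_surjective e.symm.toMonoidHom e.symm.surjective

end Cfsg.Lib.Core
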