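import Cfsg.Agent.Lib.CharTwoLocal
import Cfsg.Prelude.Def_QuasithinSetup
import Cfsg.Prelude.Def_Quasithin

/-!
# Subgroups of characteristic 2, in ambient form
-/

set_option autoImplicit false

namespace Cfsg.Lib.CharTwoIn

open Subgroup
open scoped commutatorElement

variable {G : Type*} [Group G]

/-- `C_X(O_2(X))` has no nontrivial element of odd order. -/
def CharTwoIn (X : Subgroup G) : Prop :=
  ∀ y ∈ X, (orderOf y).Coprime 2 → (∀ q ∈ Cfsg.pCoreTwoOf X, q * y = y * q) → y = 1

theorem core_le (X : Subgroup G) : Cfsg.pCoreTwoOf X ≤ X := map_subtype_le _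

theorem le_normalizer_core (X : Subgroup G) [Finite G] :
    X ≤ normalizer (Cfsg.pCoreTwoOf X : Set G) := by
  have := Fact.mk Nat.prime_two
  exact le_normalizer.trans
    (Cfsg.Lib.Core.normalizer_le_normalizer_map_char (H := X) (Cfsg.pCore 2 ↥X))

theorem core_isPGroup [Finite G] (X : Subgroup G) : IsPGroup 2 ↥(Cfsg.pCoreTwoOf X) :=
  (Cfsg.Lib.Core.pCore_isPGroup 2 ↥X).map _

theorem le_core [Finite G] {X P : Subgroup G} (hPX : P ≤ X) (hP : IsPGroup 2 P)
    (hXP : X ≤ normalizer (P : Set G)) : P ≤ Cfsg.pCoreTwoOf X := by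
  intro x hx
  refine ⟨⟨x, hPX hx⟩, ?_, rfl⟩
  exact Cfsg.Lib.Core.le_pCore' ((normal_subgroupOf_iff_le_normalizer hPX).2 hXP)
    (IsPGroup.comap_of_injective hP X.subtype X.subtype_injective) (mem_subgroupOf.2 hx)

theorem core_mono_of_normal [Finite G] {X Y : Subgroup G} (hYX : Y ≤ X)
    (hXY : X ≤ normalizer (Y : Set G)) : Cfsg.pCoreTwoOf Y ≤ Cfsg.pCoreTwoOf X := by
  have := Fact.mk Nat.prime_two
  exact le_core ((core_le Y).trans hYX) (core_isPGroup Y)
    (hXY.trans (Cfsg.Lib.Core.normalizer_le_normalizer_map_char (H := Y) (Cfsg.pCore 2 ↥Y)))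

theorem normalizer_le_normalizer_centralizer' (P : Subgroup G) :
    normalizer (P : Set G) ≤ normalizer (centralizer (P : Set G) : Set G) := by
  intro g hg
  rw [mem_normalizer_iff]
  intro c
  rw [mem_centralizer_iff, mem_centralizer_iff]
  constructor
  · intro hc t ht
    have h3 := hc (g⁻¹ * t * g) ((mem_normalizer_iff''.1 hg t).1 ht)
    calc t * (g * c * g⁻¹) = g * ((g⁻¹ * t * g) * c) * g⁻¹ := by group
      _ = g * (c * (g⁻¹ * t * g)) * g⁻¹ := by rw [h3]
      _ = g * c * g⁻¹ * t := by group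
  · intro hc t ht
    have h3 := hc (g * t * g⁻¹) ((mem_normalizer_iff.1 hg t).1 ht)
    calc t * c = g⁻¹ * ((g * t * g⁻¹) * (g * c * g⁻¹)) * g := by group
      _ = g⁻¹ * ((g * c * g⁻¹) * (g * t * g⁻¹)) * g := by rw [h3]
      _ = c * t := by group

theorem isOfCharacteristicTwo_of [Finite G] {X : Subgroup G} (h : CharTwoIn X) :
    Cfsg.IsOfCharacteristicTwo ↥X := by
  have := Fact.mk Nat.prime_two
  show centralizer (Cfsg.pCore 2 ↥X : Set ↥X) ≤ _
  refine Cfsg.Lib.Core.le_pCore' inferInstance ?_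
  intro x
  obtain ⟨k, m, hm, hkm⟩ := Nat.exists_eq_two_pow_mul_odd (orderOf_pos x).ne'
  refine ⟨k, ?_⟩
  have hmem := pow_mem x.2 (2 ^ k)
  set w : ↥X := (x : ↥X) ^ 2 ^ k with hw
  have ho : orderOf w = m := by
    rw [hw, orderOf_pow' _ (pow_ne_zero k two_ne_zero), orderOf_coe, hkm, Nat.gcd_mul_right_left,
      Nat.mul_div_cancel_left _ (pow_pos two_pos k)]
  have h1 := h (w : G) w.2 (by rw [orderOf_coe, ho]; exact Nat.coprime_two_right.2 hm) (by
    rintro q ⟨q', hq', rfl⟩
    exact congrArg Subtype.val (mem_centralizer_iff.1 hmem q' hq'))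
  refine Subtype.ext ?_
  rw [SubgroupClass.coe_pow, ← hw]
  exact Subtype.ext h1

theorem of_isOfCharacteristicTwo [Finite G] {X : Subgroup G}
    (h : Cfsg.IsOfCharacteristicTwo ↥X) : CharTwoIn X := by
  have := Fact.mk Nat.prime_two
  intro y hyX hodd hc
  have hy : (⟨y, hyX⟩ : ↥X) ∈ Cfsg.pCore 2 ↥X :=
    h (mem_centralizer_iff.2 fun q hq => Subtype.ext (hc q (mem_map_of_mem _ hq)))
  obtain ⟨k, hk⟩ := Cfsg.Lib.Core.pCore_isPGroup 2 ↥X ⟨⟨y, hyX⟩, hy⟩
  have hd : orderOf y ∣ 2 ^ k := orderOf_dvd_of_pow_eq_one (by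
    simpa using congrArg (fun z : ↥(Cfsg.pCore 2 ↥X) => ((z : ↥X) : G)) hk)
  exact orderOf_eq_one_iff.1 (Nat.eq_one_of_dvd_coprimes (hodd.pow_right k) dvd_rfl hd)

/-- Thompson: a 2-local subgroup of a group of characteristic 2 has characteristic 2. -/
theorem charTwoIn_local [Finite G] {X H P : Subgroup G} (hX : CharTwoIn X) (hPX : P ≤ X)
    (hP : IsPGroup 2 P) (hHX : H ≤ X) (hHP : H ≤ normalizer (P : Set G))
    (hCH : X ⊓ centralizer (P : Set G) ≤ H) (hor : P ≤ H ∨ H ≤ centralizer (P : Set G)) :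
    CharTwoIn H := by
  have := Fact.mk Nat.prime_two
  intro y hyH hodd hc
  have hyP : ∀ t ∈ P, t * y = y * t := fun t ht => by
    rcases hor with h | h
    · exact hc t (le_core h hP hHP ht)
    · exact mem_centralizer_iff.1 (h hyH) t ht
  set Q := Cfsg.pCoreTwoOf X with hQ
  have hXQ : X ≤ normalizer (Q : Set G) := le_normalizer_core X
  have hC0 : H ≤ normalizer ((X ⊓ centralizer (P : Set G) : Subgroup G) : Set G) := by
    intro a ha
    rw [mem_normalizer_iff]
    intro c
    rw [mem_inf, mem_inf]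
    exact and_congr (mem_normalizer_iff.1 (le_normalizer (hHX ha)) c)
      (mem_normalizer_iff.1 (normalizer_le_normalizer_centralizer' P (hHP ha)) c)
  have hD : X ⊓ centralizer (P : Set G) ≤
      normalizer ((Q ⊓ centralizer (P : Set G) : Subgroup G) : Set G) := by
    intro a ha
    rw [mem_normalizer_iff]
    intro c
    rw [mem_inf, mem_inf]
    exact and_congr (mem_normalizer_iff.1 (hXQ ha.1) c)
      (mem_normalizer_iff.1 (le_normalizer ha.2) c)
  have hDc : Q ⊓ centralizer (P : Set G) ≤ Cfsg.pCoreTwoOf H :=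
    (le_core (inf_le_inf_right _ (core_le X)) ((core_isPGroup X).to_le inf_le_left) hD).trans
      (core_mono_of_normal hCH hC0)
  have hfix : Q ⊓ centralizer (P : Set G) ≤ centralizer (zpowers y : Set G) := by
    intro w hw
    rw [mem_centralizer_iff]
    intro v hv
    obtain ⟨n, rfl⟩ := Subgroup.mem_zpowers_iff.1 hv
    exact ((Commute.zpow_right (hc w (hDc hw)) n).eq).symm
  have hAxB := Cfsg.Lib.Coprime.commutator_eq_bot_of_AxB (p := 2) Q P (zpowers y) (core_isPGroup X)
    hP (by rwa [Nat.card_zpowers]) (hPX.trans hXQ) ((zpowers_le.2 (hHX hyH)).trans hXQ)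
    (zpowers_le.2 (mem_centralizer_iff.2 hyP)) hfix
  exact hX y (hHX hyH) hodd fun q hq => commutatorElement_eq_one_iff_mul_comm.1
    ((Subgroup.eq_bot_iff_forall _).1 hAxB _ (commutator_mem_commutator hq (mem_zpowers y)))

/-- Characteristic 2 goes up along normal subgroups containing the centralizer of the 2-core. -/
theorem charTwoIn_up [Finite G] {N X : Subgroup G} (hN : CharTwoIn N) (hNX : N ≤ X)
    (hXN : X ≤ normalizer (N : Set G))
    (hc : X ⊓ centralizer (Cfsg.pCoreTwoOf X : Set G) ≤ N) : CharTwoIn X :=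
  fun y hyX hodd hcy => hN y (hc ⟨hyX, mem_centralizer_iff.2 hcy⟩) hodd
    fun q hq => hcy q (core_mono_of_normal hNX hXN hq)

/-- Characteristic 2 goes down to normal subgroups. -/
theorem charTwoIn_down [Finite G] {X Y : Subgroup G} (hX : CharTwoIn X) (hYX : Y ≤ X)
    (hXY : X ≤ normalizer (Y : Set G)) : CharTwoIn Y := by
  have := Fact.mk Nat.prime_two
  intro y hy hodd hc
  set V := Cfsg.pCoreTwoOf X with hV
  have hyV : zpowers y ≤ normalizer (V : Set G) :=
    (zpowers_le.2 (hYX hy)).trans (le_normalizer_core X)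
  have hcop : (Nat.card (zpowers y)).Coprime (Nat.card V) := by
    obtain ⟨n, hn⟩ := IsPGroup.iff_card.mp (core_isPGroup X)
    rw [hn, Nat.card_zpowers]
    exact hodd.pow_right n
  have h1 : ⁅V, zpowers y⁆ ≤ V ⊓ Y := by
    refine le_inf (le_normalizer_iff_commutator_le_left.mp hyV) ?_
    exact (commutator_mono ((core_le X).trans hXY) (zpowers_le.2 hy)).trans
      ((le_normalizer_iff_commutator_le_right).mp le_rfl)
  have h2 : V ⊓ Y ≤ Cfsg.pCoreTwoOf Y := by
    refine le_core inf_le_right ((core_isPGroup X).to_le inf_le_left) fun a ha => ?_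
    rw [mem_normalizer_iff]
    intro c
    rw [mem_inf, mem_inf]
    exact and_congr (mem_normalizer_iff.1 (le_normalizer_core X (hYX ha)) c)
      (mem_normalizer_iff.1 (le_normalizer ha) c)
  have h3 : ⁅V ⊓ Y, zpowers y⁆ = ⊥ := by
    rw [commutator_eq_bot_iff_le_centralizer]
    intro w hw
    rw [mem_centralizer_iff]
    intro v hv
    obtain ⟨n, rfl⟩ := Subgroup.mem_zpowers_iff.1 hv
    exact ((Commute.zpow_right (hc w (h2 hw)) n).eq).symm
  have : Group.IsNilpotent V := (core_isPGroup X).isNilpotent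
  have h4 := Cfsg.Lib.Coprime.commutator_eq_bot_of_stabilizes hyV hcop (Or.inr inferInstance) h1 h3
  exact hX y (hYX hy) hodd fun q hq => commutatorElement_eq_one_iff_mul_comm.1
    ((Subgroup.eq_bot_iff_forall _).1 h4 _ (commutator_mem_commutator hq (mem_zpowers y)))

theorem charTwoIn_of_subnormal [Finite G] {X : Subgroup G} (hX : CharTwoIn X) {K : Subgroup ↥X}
    (hK : K.IsSubnormal) : CharTwoIn (K.map X.subtype) := by
  induction hK with
  | top => rwa [← MonoidHom.range_eq_map, range_subtype]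
  | step H K hle _ hN ih =>
    refine charTwoIn_down ih (map_mono hle) ?_
    rw [normal_subgroupOf_iff_le_normalizer hle] at hN
    exact (map_mono hN).trans (le_normalizer_map _)

theorem two_local_of_sylow [Finite G] (heven : Cfsg.IsOfEvenCharacteristic G) (S : Sylow 2 G)
    {P : Subgroup G} (hP : IsPGroup 2 P) (hne : P ≠ ⊥)
    (hS : (S : Subgroup G) ≤ normalizer (P : Set G)) : CharTwoIn (normalizer (P : Set G)) :=
  of_isOfCharacteristicTwo (heven _ ⟨P, hP, hne, rfl⟩ ⟨S, hS⟩)

/-- A solvable normal subgroup normalizes every perfect subnormal subgroup. -/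
theorem perfect_le_of_subnormal {L R : Subgroup G} [R.Normal] (hR : Group.IsSolvable R)
    (hL : L.IsSubnormal) : ∀ P : Subgroup G, ⁅P, P⁆ = P → P ≤ L ⊔ R → P ≤ L := by
  induction hL with
  | top => exact fun P _ _ => le_top
  | step H K hle _ hN ih =>
    intro P hP hPle
    have hPK : P ≤ K := ih P hP (hPle.trans (sup_le_sup_right hle R))
    let f : ↥K →* ↥K ⧸ H.subgroupOf K := QuotientGroup.mk' _
    have hsub : (P.subgroupOf K).map f ≤ ((R.subgroupOf K).map f) := by
      rintro _ ⟨p, hp, rfl⟩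
      obtain ⟨h, hh, r, hr, hhr⟩ := mem_sup_of_normal_right.1 (hPle hp)
      rw [Subgroup.coe_subtype] at hhr
      have hrK : r ∈ K := by
        have : r = h⁻¹ * (p : G) := by rw [← hhr, inv_mul_cancel_left]
        rw [this]
        exact mul_mem (inv_mem (hle hh)) p.2
      refine ⟨⟨r, hrK⟩, mem_subgroupOf.2 hr, ?_⟩
      refine (QuotientGroup.eq (s := H.subgroupOf K)).2 (mem_subgroupOf.2 ?_)
      show r⁻¹ * (p : G) ∈ H
      have : r⁻¹ * (p : G) = r⁻¹ * h * r := by rw [← hhr, mul_assoc]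
      rw [this]
      have := hN.conj_mem ⟨h, hle hh⟩ (mem_subgroupOf.2 hh) (⟨r, hrK⟩⁻¹)
      simpa [mem_subgroupOf] using this
    have hsol : Group.IsSolvable ↥((P.subgroupOf K).map f) :=
      Cfsg.Lib.Core.isSolvable_of_le hsub (Cfsg.Lib.Core.isSolvable_map (f := f)
        (Group.isSolvable_of_isSolvable_injective (f := (K.subtype.subgroupComap R))
          (fun a b hab => Subtype.ext (K.subtype_injective (congrArg (fun z : ↥R => (z : G)) hab)))))
    have hperf : ⁅(P.subgroupOf K).map f, (P.subgroupOf K).map f⁆ = (P.subgroupOf K).map f := by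
      rw [← map_commutator]
      congr 1
      refine map_injective K.subtype_injective ?_
      rw [map_commutator, subgroupOf_map_subtype, inf_eq_left.2 hPK, hP]
    by_cases hbot : (P.subgroupOf K).map f = ⊥
    · intro x hx
      have : f ⟨x, hPK hx⟩ = 1 := by
        rw [← mem_bot, ← hbot]
        exact mem_map_of_mem _ (mem_subgroupOf.2 hx)
      exact mem_subgroupOf.1 ((QuotientGroup.eq_one_iff _).1 this)
    · exfalso
      have : Nontrivial ↥((P.subgroupOf K).map f) := (nontrivial_iff_ne_bot _).2 hbot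
      have : Group.IsPerfect ↥((P.subgroupOf K).map f) := isPerfect_iff.2 hperf
      exact Group.IsPerfect.not_isSolvable _ hsol

theorem normal_solvable_le_normalizer_subnormal_perfect {L R : Subgroup G} [R.Normal]
    (hR : Group.IsSolvable R) (hL : L.IsSubnormal) (hperf : ⁅L, L⁆ = L) :
    R ≤ normalizer (L : Set G) := by
  have key : ∀ r ∈ R, L.map (MulAut.conj r).toMonoidHom ≤ L := by
    intro r hr
    refine perfect_le_of_subnormal hR hL _ (by rw [← map_commutator, hperf]) ?_
    rintro _ ⟨x, hx, rfl⟩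
    exact mul_mem (mul_mem (mem_sup_right hr) (mem_sup_left hx)) (inv_mem (mem_sup_right hr))
  intro r hr
  rw [mem_normalizer_iff]
  intro c
  refine ⟨fun hc => key r hr ⟨c, hc, rfl⟩, fun hc => ?_⟩
  have := key r⁻¹ (inv_mem hr) ⟨_, hc, rfl⟩
  simpa [mul_assoc] using this

end Cfsg.Lib.CharTwoIn
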