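import Cfsg.Agent.Lib.Core.Layer
import Cfsg.Agent.Lib.Core.PSolvable
import Cfsg.Agent.Lib.Coprime.PGroupAction

/-!
# If all involution centralizers have characteristic 2, then all 2-locals do
-/

set_option autoImplicit false

namespace Cfsg.Lib.CharTwoLocal

open Subgroup

variable {G : Type*} [Group G] [Finite G]

theorem odd_mem_centralizer_pCore_eq_one
    (h : ∀ z : G, orderOf z = 2 → Cfsg.IsOfCharacteristicTwo ↥(centralizer ({z} : Set G)))
    {T : Subgroup G} (hT : IsPGroup 2 T) (hne : T ≠ ⊥) {H : Subgroup G} (hH : H = normalizer (T : Set G))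
    (y : ↥H) (hy : y ∈ centralizer (Cfsg.pCore 2 ↥H : Set ↥H))
    (hodd : (orderOf y).Coprime 2) : y = 1 := by
  have := Fact.mk Nat.prime_two
  have hTH : T ≤ H := hH ▸ le_normalizer
  -- an involution in the centre of `T`
  have : Nontrivial T := (Subgroup.nontrivial_iff_ne_bot T).2 hne
  have hcn : Nontrivial (center T) := hT.center_nontrivial
  obtain ⟨k, hk⟩ := IsPGroup.iff_card.mp (hT.to_subgroup (center T))
  have h2 : 2 ∣ Nat.card (center T) := by
    rcases k with _ | k
    · exact absurd (Finite.one_lt_card (α := center T)) (by rw [hk]; simp)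
    · rw [hk]; exact dvd_pow_self 2 (Nat.succ_ne_zero k)
  obtain ⟨z₀, hz₀⟩ := exists_prime_orderOf_dvd_card' 2 h2
  set z : G := ((z₀ : T) : G) with hz
  have hzo : orderOf z = 2 := by rw [hz, orderOf_coe, orderOf_coe, hz₀]
  have hTz : T ≤ centralizer ({z} : Set G) := fun t ht => by
    rw [mem_centralizer_singleton_iff]
    exact congrArg Subtype.val (Subgroup.mem_center_iff.1 z₀.2 ⟨t, ht⟩)
  set Cz := centralizer ({z} : Set G) with hCz
  set Q := (Cfsg.pCore 2 ↥Cz).map Cz.subtype with hQ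
  have hCzQ : Cz ≤ normalizer (Q : Set G) := by
    refine le_trans ?_ (Cfsg.Lib.Core.normalizer_le_normalizer_map_char (H := Cz) (Cfsg.pCore 2 ↥Cz))
    exact le_normalizer
  have hQp : IsPGroup 2 Q := (Cfsg.Lib.Core.pCore_isPGroup 2 ↥Cz).map _
  -- `y` centralizes `T`
  have hTcore : T.subgroupOf H ≤ Cfsg.pCore 2 ↥H :=
    Cfsg.Lib.Core.le_pCore' (by subst hH; exact normal_in_normalizer)
      (hT.comap_of_injective H.subtype H.subtype_injective)
  have hyT : ∀ t ∈ T, t * (y : G) = (y : G) * t := fun t ht =>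
    congrArg Subtype.val
      (mem_centralizer_iff.1 hy ⟨t, hTH ht⟩ (hTcore (mem_subgroupOf.2 ht)))
  have hyz : (y : G) ∈ Cz := by
    rw [hCz, mem_centralizer_singleton_iff]
    exact (hyT z (SetLike.coe_mem (z₀ : T))).symm
  -- the fixed points of `T` on `Q` lie in `O_2(H)`
  have hCTH : centralizer (T : Set G) ≤ H := hH ▸ centralizer_le_normalizer _
  have hCTz : centralizer (T : Set G) ≤ Cz := by
    refine centralizer_le ?_
    intro w hw
    rw [Set.mem_singleton_iff] at hw
    subst hw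
    exact (z₀ : T).2
  have hfix : Q ⊓ centralizer (T : Set G) ≤ centralizer (zpowers (y : G) : Set G) := by
    set CT := (centralizer (T : Set G)).subgroupOf H with hCT
    set D := (Q ⊓ centralizer (T : Set G)).subgroupOf H with hD
    have hDC : D ≤ CT := comap_mono inf_le_right
    have hCTn : CT.Normal := by
      refine ⟨fun c hc g => ?_⟩
      rw [hCT, mem_subgroupOf, mem_centralizer_iff] at hc ⊢
      intro t ht
      have hg : (g : G) ∈ normalizer (T : Set G) := hH ▸ g.2
      rw [mem_normalizer_iff''] at hg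
      have h3 := hc ((g : G)⁻¹ * t * (g : G)) ((hg t).1 ht)
      simp only [Subgroup.coe_mul, Subgroup.coe_inv]
      have h4 := congrArg (fun w => (g : G) * w * (g : G)⁻¹) h3
      simp only [mul_assoc] at h4 ⊢
      simpa using h4
    have hDn : (D.subgroupOf CT).Normal := by
      refine ⟨fun d hd c => ?_⟩
      rw [mem_subgroupOf, hD, mem_subgroupOf, mem_inf] at hd ⊢
      have hc : (((c : CT) : H) : G) ∈ centralizer (T : Set G) := mem_subgroupOf.1 c.2
      simp only [Subgroup.coe_mul, Subgroup.coe_inv]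
      refine ⟨?_, mul_mem (mul_mem hc hd.2) (inv_mem hc)⟩
      exact (mem_normalizer_iff.1 (hCzQ (hCTz hc)) _).1 hd.1
    have hDs : D.IsSubnormal :=
      Cfsg.Lib.Core.isSubnormal_of_normal_subgroupOf hDC hCTn.isSubnormal hDn
    have hDp : D ≤ Cfsg.pCore 2 ↥H :=
      Cfsg.Lib.Core.le_pCore_of_isSubnormal hDs
        (IsPGroup.comap_of_injective (hQp.to_le inf_le_left) H.subtype H.subtype_injective)
    intro w hw
    rw [mem_centralizer_iff]
    intro v hv
    obtain ⟨n, rfl⟩ := Subgroup.mem_zpowers_iff.1 hv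
    have hc : w * (y : G) = (y : G) * w :=
      congrArg Subtype.val
        (mem_centralizer_iff.1 hy ⟨w, hCTH hw.2⟩ (hDp (mem_subgroupOf.2 hw)))
    exact ((Commute.zpow_right hc n).eq).symm
  have hAxB := Cfsg.Lib.Coprime.commutator_eq_bot_of_AxB (p := 2) Q T (zpowers (y : G)) hQp hT
    (by rwa [Nat.card_zpowers, orderOf_coe]) (hTz.trans hCzQ)
    ((zpowers_le.2 hyz).trans hCzQ)
    (zpowers_le.2 (mem_centralizer_iff.2 fun t ht => hyT t ht)) hfix
  have hyQ : (⟨y, hyz⟩ : ↥Cz) ∈ Cfsg.pCore 2 ↥Cz := by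
    refine h z hzo (mem_centralizer_iff.2 fun q hq => Subtype.ext ?_)
    have hq' : (q : G) ∈ Q := mem_map_of_mem _ hq
    exact (commutatorElement_eq_one_iff_mul_comm.1
      ((Subgroup.eq_bot_iff_forall _).1 hAxB _
        (commutator_mem_commutator hq' (mem_zpowers (y : G)))))
  have h1 : orderOf y ∣ 2 ^ (Nat.card (Cfsg.pCore 2 ↥Cz)) := by
    obtain ⟨m, hm⟩ := IsPGroup.iff_card.mp (Cfsg.Lib.Core.pCore_isPGroup 2 ↥Cz)
    have hd := Subgroup.orderOf_dvd_natCard (Cfsg.pCore 2 ↥Cz) hyQ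
    rw [Subgroup.orderOf_mk, orderOf_coe] at hd
    rw [hm] at hd
    exact hd.trans (pow_dvd_pow 2 (by rw [hm]; exact (Nat.lt_pow_self (by norm_num)).le))
  exact orderOf_eq_one_iff.1 (Nat.eq_one_of_dvd_coprimes (hodd.pow_right _) dvd_rfl h1)

theorem charTwo_normalizer
    (h : ∀ z : G, orderOf z = 2 → Cfsg.IsOfCharacteristicTwo ↥(centralizer ({z} : Set G)))
    {T : Subgroup G} (hT : IsPGroup 2 T) (hne : T ≠ ⊥) :
    Cfsg.IsOfCharacteristicTwo ↥(normalizer (T : Set G)) := by
  have := Fact.mk Nat.prime_two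
  show centralizer (Cfsg.pCore 2 ↥(normalizer (T : Set G)) : Set ↥(normalizer (T : Set G))) ≤ _
  refine Cfsg.Lib.Core.le_pCore' inferInstance ?_
  intro x
  obtain ⟨k, m, hm, hkm⟩ := Nat.exists_eq_two_pow_mul_odd (orderOf_pos x).ne'
  refine ⟨k, ?_⟩
  have ho : orderOf (((x : ↥(normalizer (T : Set G)))) ^ 2 ^ k) = m := by
    rw [orderOf_pow' _ (pow_ne_zero k two_ne_zero), orderOf_coe, hkm, Nat.gcd_mul_right_left,
      Nat.mul_div_cancel_left _ (pow_pos two_pos k)]
  have h1 := odd_mem_centralizer_pCore_eq_one h hT hne rfl _ (pow_mem x.2 (2 ^ k))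
    (by rw [ho]; exact (Nat.coprime_two_right).2 hm)
  exact Subtype.ext (by simpa using h1)

theorem isCharacteristicTwoType_of_involutions (he : Even (Nat.card G))
    (h : ∀ z : G, orderOf z = 2 → Cfsg.IsOfCharacteristicTwo ↥(centralizer ({z} : Set G))) :
    Cfsg.IsCharacteristicTwoType G :=
  ⟨he, fun _ hT hne => charTwo_normalizer h hT hne⟩

end Cfsg.Lib.CharTwoLocal
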