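import Cfsg.Agent.Lib.Sig.PConstrained
import Cfsg.Agent.Lib.Core.Layer
import Mathlib

/-!
p-constrained groups: layer criterion, subnormal subgroups, normalizers of p-subgroups.
-/

set_option autoImplicit false

namespace Cfsg.Lib.ConstrainedLocal

open Subgroup
open scoped commutatorElement

variable {G : Type*} [Group G] [Finite G] {p : ℕ} [hp : Fact p.Prime]

theorem fitting_eq (hO : Cfsg.pPrimeCore p G = ⊥) : Cfsg.fittingSubgroup G = Cfsg.pCore p G := by
  refine le_antisymm ?_ (Cfsg.Lib.Core.pCore_le_fittingSubgroup p G)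
  rw [Cfsg.Lib.Core.fittingSubgroup_eq_iSup_pCore]
  refine iSup_le fun q => ?_
  by_cases h2 : (q : ℕ) = p
  · rw [h2]
  have hle : Cfsg.pCore (q : ℕ) G ≤ Cfsg.pPrimeCore p G := by
    refine Cfsg.Lib.Core.le_pPrimeCore' inferInstance ?_
    haveI := Fact.mk q.2
    obtain ⟨n, hn⟩ := (Cfsg.Lib.Core.pCore_isPGroup (q : ℕ) G).exists_card_eq
    rw [hn]
    exact ((Nat.coprime_primes q.2 hp.out).2 h2).pow_left n
  exact (hle.trans hO.le).trans bot_le

theorem layer_bot_congr {G' : Type*} [Group G'] [Finite G'] (e : G ≃* G') :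
    Cfsg.layer G = ⊥ ↔ Cfsg.layer G' = ⊥ := by
  rw [← Cfsg.Lib.Core.map_layer_equiv e, map_eq_bot_iff_of_injective _ e.injective]

theorem constrained_iff_layer :
    Cfsg.IsPConstrained p G ↔ Cfsg.layer (G ⧸ Cfsg.pPrimeCore p G) = ⊥ := by
  rw [Cfsg.Lib.Sig.isPConstrained_iff, ← fitting_eq Cfsg.Lib.Core.pPrimeCore_quotient_eq_bot,
    Cfsg.Lib.Core.centralizer_fitting_le_iff_layer_eq_bot]

/-- Constraint read off a surjection with kernel the p'-core. -/
theorem constrained_iff_of_surjective {Y : Type*} [Group Y] [Finite Y] (f : G →* Y) (hf : Function.Surjective f)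
    (hk : f.ker = Cfsg.pPrimeCore p G) : Cfsg.IsPConstrained p G ↔ Cfsg.layer Y = ⊥ :=
  constrained_iff_layer.trans
    (layer_bot_congr ((QuotientGroup.quotientMulEquivOfEq hk.symm).trans (QuotientGroup.quotientKerEquivOfSurjective f hf)))

/-- A subnormal subgroup, read inside the quotient by the p'-core. -/
theorem subnormal_iff {C : Subgroup G} (hC : C.IsSubnormal) :
    Cfsg.IsPConstrained p ↥C ↔ Cfsg.layer ↥(C.map (QuotientGroup.mk' (Cfsg.pPrimeCore p G))) = ⊥ := by
  refine constrained_iff_of_surjective ((QuotientGroup.mk' (Cfsg.pPrimeCore p G)).subgroupMap C)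
    (MonoidHom.subgroupMap_surjective _ C) ?_
  have h := Cfsg.Lib.Core.pPrimeCore_map_eq_inf_of_isSubnormal (p := p) hC
  ext x
  rw [MonoidHom.mem_ker]
  constructor
  · intro hx
    have hx' : (x : G) ∈ Cfsg.pPrimeCore p G := (QuotientGroup.eq_one_iff _).1 (congrArg Subtype.val hx)
    have hm : (x : G) ∈ (Cfsg.pPrimeCore p ↥C).map C.subtype := h ▸ ⟨hx', x.2⟩
    obtain ⟨y, hy, hxy⟩ := hm
    rwa [Subtype.ext hxy] at hy
  · intro hx
    have hm : (x : G) ∈ Cfsg.pPrimeCore p G ⊓ C := h ▸ ⟨x, hx, rfl⟩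
    exact Subtype.ext ((QuotientGroup.eq_one_iff _).2 hm.1)

theorem subnormal_constrained {C : Subgroup G} (hC : C.IsSubnormal) (hG : Cfsg.IsPConstrained p G) :
    Cfsg.IsPConstrained p ↥C := by
  rw [subnormal_iff hC, Cfsg.Lib.Core.layer_eq_bot_iff]
  intro L hL
  have hG' := Cfsg.Lib.Core.layer_eq_bot_iff.1 (constrained_iff_layer.1 hG)
  exact hG' _ ((Cfsg.Lib.Core.isComponent_map_subtype_iff (hC.map (QuotientGroup.mk'_surjective _)) L).2 hL)

/-- If the centralizer of a normal p-subgroup is constrained, so is the whole group. -/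
theorem constrained_of_centralizer {T : Subgroup G} [T.Normal] (hT : IsPGroup p ↥T)
    (h : Cfsg.IsPConstrained p ↥(centralizer (T : Set G))) : Cfsg.IsPConstrained p G := by
  haveI hCn : (centralizer (T : Set G)).Normal := ⟨fun c hc g => mem_centralizer_iff.2 fun t ht => by
    have h2 := mem_centralizer_iff.1 hc (g⁻¹ * t * g) (by
      have := (inferInstance : T.Normal).conj_mem t ht g⁻¹
      rwa [inv_inv] at this)
    calc t * (g * c * g⁻¹) = g * ((g⁻¹ * t * g) * c) * g⁻¹ := by group
      _ = g * (c * (g⁻¹ * t * g)) * g⁻¹ := by rw [h2]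
      _ = g * c * g⁻¹ * t := by group⟩
  rw [constrained_iff_layer, Cfsg.Lib.Core.layer_eq_bot_iff]
  intro L hL
  set q := QuotientGroup.mk' (Cfsg.pPrimeCore p G) with hq
  haveI hTn : (T.map q).Normal := (inferInstance : T.Normal).map q (QuotientGroup.mk'_surjective _)
  have hTp : IsPGroup p ↥(T.map q) := hT.map q
  have hsol : Group.IsSolvable ↥(T.map q) := by
    haveI := hTp.isNilpotent
    infer_instance
  have h1 := Cfsg.Lib.Core.component_commute_solvable hL hsol (by rw [normalizer_eq_top_iff.2 hTn]; exact le_top)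
  have hle : L ≤ centralizer ((T.map q : Subgroup _) : Set _) := by
    rw [← commutator_eq_bot_iff_le_centralizer]; exact h1
  rw [Cfsg.Lib.Sig.centralizer_map_mk' _ (Cfsg.Lib.Core.pPrimeCore_coprime p G) hT] at hle
  have hsub : (centralizer (T : Set G)).IsSubnormal := hCn.isSubnormal
  have h2 := Cfsg.Lib.Core.layer_eq_bot_iff.1 ((subnormal_iff hsub).1 h)
  exact h2 _ (Cfsg.Lib.Core.IsComponent.subgroupOf hL hle)

/-- Normalizers of p-subgroups in constrained groups are constrained. -/
theorem normalizer_constrained (hG : Cfsg.IsPConstrained p G) {T : Subgroup G} (hT : IsPGroup p ↥T) :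
    Cfsg.IsPConstrained p ↥(normalizer (T : Set G)) := by
  set N := Cfsg.pPrimeCore p G with hNd
  set q := QuotientGroup.mk' N with hq
  set H := normalizer (T : Set G) with hH
  set Y := H.map q with hY
  have hC := Cfsg.Lib.Sig.isPConstrained_iff.1 hG
  set P := Cfsg.pCore p (G ⧸ N) with hP
  have hPp : IsPGroup p ↥P := Cfsg.Lib.Core.pCore_isPGroup p _
  have hTY : T.map q ≤ Y := map_mono le_normalizer
  have hnormY : normalizer ((T.map q : Subgroup (G ⧸ N)) : Set (G ⧸ N)) ≤ Y := by
    intro y hy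
    obtain ⟨x, rfl⟩ := QuotientGroup.mk'_surjective N y
    have hcop : (Nat.card T).Coprime (Nat.card N) := by
      obtain ⟨k, hk⟩ := hT.exists_card_eq
      rw [hk]; exact ((Cfsg.Lib.Core.pPrimeCore_coprime p G).symm).pow_left k
    have hsol : Group.IsSolvable ↥T := by haveI := hT.isNilpotent; infer_instance
    have hTN : T ≤ normalizer (N : Set G) := by rw [normalizer_eq_top_iff.2 inferInstance]; exact le_top
    have hB : T.map (MulAut.conj x).toMonoidHom ≤ N ⊔ T := by
      rintro _ ⟨t, ht, rfl⟩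
      have h1 : q (x * t * x⁻¹) ∈ T.map q := by
        rw [map_mul, map_mul, map_inv]
        exact (mem_normalizer_iff.1 hy _).1 ⟨t, ht, rfl⟩
      obtain ⟨t', ht', he⟩ := h1
      show x * t * x⁻¹ ∈ N ⊔ T
      have h2 : t'⁻¹ * (x * t * x⁻¹) ∈ N := QuotientGroup.eq.1 he
      have := mul_mem (mem_sup_right (S := N) ht') (mem_sup_left (T := T) h2)
      rwa [mul_inv_cancel_left] at this
    obtain ⟨n, hn, hBn⟩ := Cfsg.Lib.Coprime.exists_conj_of_coprime N T _ hTN hcop (Or.inl hsol) hB
      (Cfsg.Lib.Coprime.card_map_conj _ _)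
    refine ⟨n⁻¹ * x, ?_, ?_⟩
    · show n⁻¹ * x ∈ normalizer (T : Set G)
      rw [mem_normalizer_iff]
      intro t
      have e : t ∈ T ↔ x * t * x⁻¹ ∈ T.map (MulAut.conj n).toMonoidHom := by
        rw [← hBn, Cfsg.Lib.Coprime.mem_map_conj_iff, show x⁻¹ * (x * t * x⁻¹) * x = t by group]
      rw [e, Cfsg.Lib.Coprime.mem_map_conj_iff,
        show n⁻¹ * (x * t * x⁻¹) * n = n⁻¹ * x * t * (n⁻¹ * x)⁻¹ by group]
    · rw [map_mul, map_inv, show q n = 1 from (QuotientGroup.eq_one_iff n).2 hn, inv_one, one_mul]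
  have hYn : Y ≤ normalizer ((T.map q : Subgroup (G ⧸ N)) : Set (G ⧸ N)) := le_normalizer_map q
  have hcen : centralizer ((T.map q : Subgroup (G ⧸ N)) : Set (G ⧸ N)) ≤ Y :=
    (centralizer_le_normalizer _).trans hnormY
  have hTp : IsPGroup p ↥(T.map q) := hT.map q
  -- no p'-core
  set O := (Cfsg.pPrimeCore p ↥Y).map Y.subtype with hO
  have hOc : (Nat.card ↥O).Coprime p := by
    rw [hO, card_map_of_injective Y.subtype_injective]; exact Cfsg.Lib.Core.pPrimeCore_coprime p _
  have hObot : O = ⊥ := by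
    refine Cfsg.Lib.Sig.eq_bot_of_centralizer_pCore_le hC hTp hOc ?_ ?_
    · rintro _ ⟨o, ho, rfl⟩
      refine mem_centralizer_iff.2 fun t ht => ?_
      have hdis : Cfsg.pPrimeCore p ↥Y ⊓ (T.map q).subgroupOf Y = ⊥ := by
        rw [inf_comm]
        exact Cfsg.Lib.Sig.disjoint_of_isPGroup_coprime (hTp.comap_of_injective Y.subtype Y.subtype_injective)
          (Cfsg.Lib.Core.pPrimeCore_coprime p _)
      haveI : ((T.map q).subgroupOf Y).Normal := (normal_subgroupOf_iff_le_normalizer hTY).2 hYn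
      have := commutator_le_inf (Cfsg.pPrimeCore p ↥Y) ((T.map q).subgroupOf Y)
      rw [hdis, le_bot_iff] at this
      exact (congrArg Subtype.val (commutatorElement_eq_one_iff_mul_comm.1
        ((eq_bot_iff_forall _).1 this _ (commutator_mem_commutator ho (mem_subgroupOf.2 ht : (⟨t, hTY ht⟩ : ↥Y) ∈ _))))).symm
    · exact (inf_le_right.trans hcen).trans
        (le_normalizer.trans (Cfsg.Lib.Core.normalizer_le_normalizer_map_char (H := Y) (Cfsg.pPrimeCore p ↥Y)))
  -- no components
  have hlay : Cfsg.layer ↥Y = ⊥ := by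
    rw [Cfsg.Lib.Core.layer_eq_bot_iff]
    intro L hL
    set L' := L.map Y.subtype with hL'
    haveI hn1 : ((T.map q).subgroupOf Y).Normal := (normal_subgroupOf_iff_le_normalizer hTY).2 hYn
    haveI hn2 : (P.subgroupOf Y).Normal := inferInstance
    have hc : ∀ S : Subgroup (G ⧸ N), IsPGroup p ↥S → (S.subgroupOf Y).Normal → ∀ s ∈ S, s ∈ Y → ∀ l ∈ L', s * l = l * s := by
      rintro S hS hSn s hs hsY _ ⟨l, hl, rfl⟩
      have hSp : IsPGroup p ↥(S.subgroupOf Y) := hS.comap_of_injective Y.subtype Y.subtype_injective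
      have h1 := Cfsg.Lib.Core.component_commute_solvable hL (H := S.subgroupOf Y)
        (by haveI := hSp.isNilpotent; infer_instance) (by rw [normalizer_eq_top_iff.2 hSn]; exact le_top)
      exact (congrArg Subtype.val (commutatorElement_eq_one_iff_mul_comm.1
        ((eq_bot_iff_forall _).1 h1 _ (commutator_mem_commutator hl (mem_subgroupOf.2 hs : (⟨s, hsY⟩ : ↥Y) ∈ _))))).symm
    have hsolL : IsPGroup p ↥L' := by
      intro x
      obtain ⟨k, m, hm, hxm⟩ := Nat.exists_eq_pow_mul_and_not_dvd (orderOf_pos (x : G ⧸ N)).ne' p hp.out.ne_one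
      refine ⟨k, Subtype.ext ?_⟩
      rw [SubmonoidClass.coe_pow, OneMemClass.coe_one]
      set w := (x : G ⧸ N) ^ p ^ k with hw
      have hwm : (Nat.card ↥(zpowers w)).Coprime p := by
        have hd : orderOf w ∣ m := orderOf_dvd_of_pow_eq_one (by rw [hw, ← pow_mul, ← hxm, pow_orderOf_eq_one])
        rw [Nat.card_zpowers]
        exact ((hp.out.coprime_iff_not_dvd.2 fun hd' => hm (hd'.trans hd))).symm
      have hwL : w ∈ L' := pow_mem x.2 _
      have hnormP : ∀ S : Subgroup (G ⧸ N), S ≤ normalizer (P : Set (G ⧸ N)) := fun S => by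
        rw [normalizer_eq_top_iff.2 inferInstance]; exact le_top
      have hbot := Cfsg.Lib.Coprime.commutator_eq_bot_of_AxB P (T.map q) (zpowers w) hPp hTp hwm (hnormP _) (hnormP _)
        (zpowers_le.2 (mem_centralizer_iff.2 fun t ht => hc _ hTp hn1 t ht (hTY ht) w hwL))
        (fun u hu => mem_centralizer_iff.2 fun z hz => by
          obtain ⟨i, rfl⟩ := hz
          exact ((show Commute u w from hc P hPp hn2 u hu.1 (hcen hu.2) w hwL).zpow_right i).eq.symm)
      have hwC : w ∈ centralizer (P : Set (G ⧸ N)) := mem_centralizer_iff.2 fun u hu =>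
        commutatorElement_eq_one_iff_mul_comm.1 ((eq_bot_iff_forall _).1 hbot _ (commutator_mem_commutator hu (mem_zpowers w)))
      obtain ⟨j, hj⟩ := IsPGroup.iff_orderOf.1 hPp ⟨w, hC hwC⟩
      rw [Subgroup.orderOf_mk] at hj
      have h1 : orderOf w = 1 := by
        rw [Nat.card_zpowers] at hwm
        exact Nat.eq_one_of_dvd_coprimes (hwm.pow_right j) dvd_rfl hj.dvd
      exact orderOf_eq_one_iff.1 h1
    have hLp : IsPGroup p ↥L := hsolL.of_equiv (L.equivMapOfInjective _ Y.subtype_injective).symm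
    haveI := hLp.isNilpotent
    exact Cfsg.Lib.Core.IsComponent.not_solvable hL inferInstance
  refine (constrained_iff_of_surjective (q.subgroupMap H) (MonoidHom.subgroupMap_surjective _ H) ?_).2 hlay
  refine le_antisymm ?_ ?_
  · refine Cfsg.Lib.Core.le_pPrimeCore' inferInstance ?_
    have h1 : (q.subgroupMap H).ker.map H.subtype ≤ N := by
      rintro _ ⟨u, hu, rfl⟩; exact (QuotientGroup.eq_one_iff _).1 (congrArg Subtype.val (MonoidHom.mem_ker.1 hu))
    have h2 := Cfsg.Lib.Core.coprime_card_of_le h1 (Cfsg.Lib.Core.pPrimeCore_coprime p G)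
    rwa [card_map_of_injective H.subtype_injective] at h2
  · intro u hu
    rw [MonoidHom.mem_ker]
    have hm := Cfsg.Lib.Core.map_pPrimeCore_le (p := p) (q.subgroupMap H) (MonoidHom.subgroupMap_surjective _ H) (mem_map_of_mem _ hu)
    rw [hO, map_eq_bot_iff_of_injective _ Y.subtype_injective] at hObot
    rwa [hObot, mem_bot] at hm

theorem equiv_constrained {G' : Type*} [Group G'] [Finite G'] (e : G ≃* G') (h : Cfsg.IsPConstrained p G) :
    Cfsg.IsPConstrained p G' := by
  rw [constrained_iff_layer] at h ⊢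
  exact (layer_bot_congr (QuotientGroup.congr (Cfsg.pPrimeCore p G) (Cfsg.pPrimeCore p G') e
    (Cfsg.Lib.Core.map_pPrimeCore_equiv e))).1 h

/-- The normalizer inside a constrained overgroup. -/
theorem normalizer_inf_constrained {M T : Subgroup G} (hM : Cfsg.IsPConstrained p ↥M) (hTM : T ≤ M) (hT : IsPGroup p ↥T) :
    Cfsg.IsPConstrained p ↥(M ⊓ normalizer (T : Set G)) := by
  have h := normalizer_constrained hM (T := T.subgroupOf M) (hT.comap_of_injective M.subtype M.subtype_injective)
  have heq : (normalizer ((T.subgroupOf M : Subgroup ↥M) : Set ↥M)).map M.subtype = M ⊓ normalizer (T : Set G) := by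
    ext x
    constructor
    · rintro ⟨u, hu, rfl⟩
      refine ⟨u.2, mem_normalizer_iff.2 fun t => ⟨fun ht => ?_, fun ht => ?_⟩⟩
      · exact mem_subgroupOf.1 ((mem_normalizer_iff.1 hu ⟨t, hTM ht⟩).1 (mem_subgroupOf.2 ht))
      · have htM : t ∈ M := by
          have := M.mul_mem (M.mul_mem (M.inv_mem u.2) (hTM ht)) u.2
          simpa [mul_assoc] using this
        exact mem_subgroupOf.1 ((mem_normalizer_iff.1 hu ⟨t, htM⟩).2 (mem_subgroupOf.2 ht))
    · rintro ⟨hxM, hxN⟩
      refine ⟨⟨x, hxM⟩, mem_normalizer_iff.2 fun t => ?_, rfl⟩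
      exact mem_normalizer_iff.1 hxN t
  rw [← heq]
  exact equiv_constrained (equivMapOfInjective _ _ M.subtype_injective) h

/-- All centralizers of elements of order p constrained: so are all p-locals. -/
theorem local_constrained (h : ∀ x : G, orderOf x = p → Cfsg.IsPConstrained p ↥(Subgroup.centralizer ({x} : Set G)))
    {T : Subgroup G} (hT : IsPGroup p ↥T) (hT1 : T ≠ ⊥) : Cfsg.IsPConstrained p ↥(Subgroup.normalizer (T : Set G)) := by
  set N := Subgroup.normalizer (T : Set G) with hN
  haveI : Nontrivial ↥T := (Subgroup.nontrivial_iff_ne_bot T).2 hT1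
  haveI := hT.center_nontrivial
  obtain ⟨n', hn', hn''⟩ := (hT.to_subgroup (Subgroup.center ↥T)).nontrivial_iff_card.1 inferInstance
  obtain ⟨z, hz⟩ := exists_prime_orderOf_dvd_card' (G := ↥(Subgroup.center ↥T)) p (hn'' ▸ dvd_pow_self p (by omega))
  set x : G := ((z : ↥T) : G) with hx
  have hxo : orderOf x = p := by rw [hx, Subgroup.orderOf_coe, Subgroup.orderOf_coe, hz]
  set M := Subgroup.centralizer ({x} : Set G) with hM
  have hTM : T ≤ M := fun t ht => Subgroup.mem_centralizer_singleton_iff.2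
    (congrArg Subtype.val (Subgroup.mem_center_iff.1 z.2 ⟨t, ht⟩))
  have h1 := normalizer_inf_constrained (h x hxo) hTM hT
  set C := Subgroup.centralizer (T : Set G) with hC
  have hCle : C ≤ M ⊓ N := le_inf (fun c hc => Subgroup.mem_centralizer_singleton_iff.2
    (Subgroup.mem_centralizer_iff.1 hc x (z : ↥T).2).symm) (Subgroup.centralizer_le_normalizer _)
  have hN' : M ⊓ N ≤ Subgroup.normalizer (C : Set G) := by
    intro g hg
    rw [Subgroup.mem_normalizer_iff]
    have hgen : ∀ g ∈ N, ∀ c ∈ C, g * c * g⁻¹ ∈ C := by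
      intro g hg c hc
      refine Subgroup.mem_centralizer_iff.2 fun t ht => ?_
      have h2 := Subgroup.mem_centralizer_iff.1 hc (g⁻¹ * t * g) (by
        have := (Subgroup.mem_normalizer_iff.1 (N.inv_mem hg) t).1 ht
        rwa [inv_inv] at this)
      calc t * (g * c * g⁻¹) = g * ((g⁻¹ * t * g) * c) * g⁻¹ := by group
        _ = g * (c * (g⁻¹ * t * g)) * g⁻¹ := by rw [h2]
        _ = g * c * g⁻¹ * t := by group
    refine fun c => ⟨hgen g hg.2 c, fun hc => ?_⟩
    have := hgen g⁻¹ (N.inv_mem hg.2) _ hc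
    simpa [mul_assoc] using this
  have h2 : Cfsg.IsPConstrained p ↥C := by
    haveI hn : (C.subgroupOf (M ⊓ N)).Normal := (Subgroup.normal_subgroupOf_iff_le_normalizer hCle).2 hN'
    exact equiv_constrained (Subgroup.subgroupOfEquivOfLe hCle) (subnormal_constrained hn.isSubnormal h1)
  haveI : (T.subgroupOf N).Normal := Subgroup.normal_in_normalizer
  refine constrained_of_centralizer (T := T.subgroupOf N) (hT.comap_of_injective N.subtype N.subtype_injective) ?_
  have heq : (Subgroup.centralizer ((T.subgroupOf N : Subgroup ↥N) : Set ↥N)).map N.subtype = C := by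
    ext u
    constructor
    · rintro ⟨v, hv, rfl⟩
      exact Subgroup.mem_centralizer_iff.2 fun t ht =>
        congrArg Subtype.val (Subgroup.mem_centralizer_iff.1 hv ⟨t, Subgroup.le_normalizer ht⟩ (Subgroup.mem_subgroupOf.2 ht))
    · intro hu
      exact ⟨⟨u, (hCle hu).2⟩, Subgroup.mem_centralizer_iff.2 fun t ht =>
        Subtype.ext (Subgroup.mem_centralizer_iff.1 hu t (Subgroup.mem_subgroupOf.1 ht)), rfl⟩
  rw [← heq] at h2
  exact equiv_constrained (Subgroup.equivMapOfInjective _ _ N.subtype_injective).symm h2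

end Cfsg.Lib.ConstrainedLocal
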