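import Cfsg.Agent.Lib.FusionSys.StronglyEmb
import Cfsg.Agent.Lib.Core.Cores
import Cfsg.Prelude.Def_EvenType
import Cfsg.Prelude.Def_Amalgam

/-!
# Strongly `p`-embedded subgroups: fusion criterion and inheritance
-/

set_option autoImplicit false

namespace Cfsg.Lib.SPEmbedded

open Subgroup

variable {G : Type*} [Group G] [Finite G] {p : ℕ} [Fact p.Prime]

theorem fusion_criterion {Y : Subgroup G} (hY : Cfsg.IsStronglyPEmbedded p Y) {t g : G} (ht : t ∈ Y)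
    (hto : orderOf t = p) (hg : g * t * g⁻¹ ∈ Y) : g ∈ Y := by
  obtain ⟨hdvd, -, P, hP⟩ := hY
  have hN : ∀ Q : Subgroup G, Q ≤ (P : Subgroup G) → Q ≠ ⊥ → normalizer (Q : Set G) ≤ Y :=
    fun Q h1 h2 => (Cfsg.Lib.FusionSys.normalizer_le_kGeneratedCore P.isPGroup' h1 h2).trans hP
  have hPne : (P : Subgroup G) ≠ ⊥ := P.ne_bot_of_dvd_card hdvd
  have hPY : (P : Subgroup G) ≤ Y := le_normalizer.trans (hN _ le_rfl hPne)
  have into : ∀ x ∈ Y, orderOf x = p → ∃ y ∈ Y, y * x * y⁻¹ ∈ (P : Subgroup G) := by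
    intro x hx hxo
    have hxp : IsPGroup p ↥(zpowers (⟨x, hx⟩ : Y)) :=
      IsPGroup.of_card (n := 1) (by rw [Nat.card_zpowers, Subgroup.orderOf_mk, hxo, pow_one])
    obtain ⟨R, hR⟩ := hxp.exists_le_sylow
    obtain ⟨y, hy⟩ := MulAction.exists_smul_eq ↥Y R (P.subtype hPY)
    refine ⟨y, y.2, ?_⟩
    have h1 : y * ⟨x, hx⟩ * y⁻¹ ∈ (P.subtype hPY : Subgroup Y) := by
      rw [← hy, Sylow.smul_def]
      exact ⟨⟨x, hx⟩, hR (mem_zpowers _), rfl⟩
    exact h1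
  obtain ⟨y₁, hy₁, h1⟩ := into t ht hto
  obtain ⟨y₂, hy₂, h2⟩ := into _ hg (by
    rw [show g * t * g⁻¹ = MulAut.conj g t from rfl, MulEquiv.orderOf_eq, hto])
  have ht1 : y₁ * t * y₁⁻¹ ≠ 1 := fun h => by
    rw [conj_eq_one_iff] at h
    rw [h, orderOf_one] at hto
    exact (Fact.out : p.Prime).ne_one hto.symm
  have h3 : (y₂ * g * y₁⁻¹) * (y₁ * t * y₁⁻¹) * (y₂ * g * y₁⁻¹)⁻¹ ∈ (P : Subgroup G) := by
    have : (y₂ * g * y₁⁻¹) * (y₁ * t * y₁⁻¹) * (y₂ * g * y₁⁻¹)⁻¹ = y₂ * (g * t * g⁻¹) * y₂⁻¹ := by group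
    rw [this]; exact h2
  have h4 := Cfsg.Lib.FusionSys.mem_of_conj_mem P hN h1 ht1 h3
  have h5 := mul_mem (mul_mem (inv_mem hy₂) h4) hy₁
  simpa [mul_assoc] using h5

theorem of_criterion {Y : Subgroup G} (hne : Y ≠ ⊤) (hdvd : p ∣ Nat.card Y)
    (h : ∀ t ∈ Y, orderOf t = p → ∀ g : G, g * t * g⁻¹ ∈ Y → g ∈ Y) :
    Cfsg.IsStronglyPEmbedded p Y := by
  have hnorm : ∀ Q : Subgroup G, Q ≤ Y → IsPGroup p Q → Q ≠ ⊥ → normalizer (Q : Set G) ≤ Y := by
    intro Q hQY hQ hQne g hg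
    have : Nontrivial Q := (nontrivial_iff_ne_bot Q).2 hQne
    obtain ⟨n, hn, hc⟩ := hQ.nontrivial_iff_card.1 inferInstance
    obtain ⟨t, ht⟩ := exists_prime_orderOf_dvd_card' (G := Q) p (hc ▸ dvd_pow_self p hn.ne')
    exact h t (hQY t.2) (by rw [orderOf_coe, ht]) g (hQY ((mem_normalizer_iff.1 hg t).1 t.2))
  obtain ⟨R⟩ : Nonempty (Sylow p Y) := inferInstance
  set R' := (R : Subgroup Y).map Y.subtype with hR'
  have hR'Y : R' ≤ Y := map_subtype_le _
  have hR'ne : R' ≠ ⊥ := by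
    rw [hR', Ne, map_eq_bot_iff_of_injective _ Y.subtype_injective]
    exact R.ne_bot_of_dvd_card hdvd
  obtain ⟨P, hP⟩ := (R.isPGroup'.map Y.subtype).exists_le_sylow
  have hPR : (P : Subgroup G) = R' := by
    by_contra hne'
    have hlt := Cfsg.Lib.FusionSys.lt_inf_normalizer_self P.isPGroup' (lt_of_le_of_ne hP (Ne.symm hne'))
    have hle : (P : Subgroup G) ⊓ normalizer (R' : Set G) ≤ Y :=
      inf_le_right.trans (hnorm R' hR'Y (R.isPGroup'.map _) hR'ne)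
    have h1 : ((P : Subgroup G) ⊓ normalizer (R' : Set G)).subgroupOf Y = (R : Subgroup Y) :=
      R.is_maximal' ((P.isPGroup'.to_le inf_le_left).comap_of_injective _ Y.subtype_injective)
        (fun x hx => hlt.le ⟨x, hx, rfl⟩)
    refine hlt.not_ge fun x hx => ?_
    exact ⟨⟨x, hle hx⟩, h1 ▸ (mem_subgroupOf.2 hx), rfl⟩
  refine ⟨hdvd.trans (Subgroup.card_subgroup_dvd_card Y), hne, P,
    Cfsg.Lib.FusionSys.kGeneratedCore_le_of fun Q hQ hQne => ?_⟩
  exact hnorm Q ((hQ.trans hPR.le).trans hR'Y) (P.isPGroup'.to_le hQ) hQne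

theorem subgroupOf {X H : Subgroup G} (hX : Cfsg.IsStronglyPEmbedded p X) (hHX : ¬ H ≤ X)
    (hd : p ∣ Nat.card ↥(H ⊓ X)) : Cfsg.IsStronglyPEmbedded p ((H ⊓ X).subgroupOf H) := by
  refine of_criterion (fun h => hHX ((subgroupOf_eq_top.1 h).trans inf_le_right)) ?_ ?_
  · rwa [Nat.card_congr (subgroupOfEquivOfLe inf_le_left).toEquiv]
  · intro t ht hto g hg
    rw [mem_subgroupOf] at ht hg ⊢
    exact ⟨g.2, fusion_criterion hX ht.2 (by rw [orderOf_coe, hto]) hg.2⟩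

theorem exists_order_p {X : Subgroup G} (hX : Cfsg.IsStronglyPEmbedded p X) :
    ∃ t ∈ X, orderOf t = p := by
  obtain ⟨hdvd, -, P, hP⟩ := hX
  have hPne : (P : Subgroup G) ≠ ⊥ := P.ne_bot_of_dvd_card hdvd
  have hPX : (P : Subgroup G) ≤ X := le_normalizer.trans
    ((Cfsg.Lib.FusionSys.normalizer_le_kGeneratedCore P.isPGroup' le_rfl hPne).trans hP)
  obtain ⟨n, hn, hc⟩ := P.isPGroup'.nontrivial_iff_card.1 ((nontrivial_iff_ne_bot _).2 hPne)
  obtain ⟨t, ht⟩ := exists_prime_orderOf_dvd_card' (G := (P : Subgroup G)) p (hc ▸ dvd_pow_self p hn.ne')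
  exact ⟨t, hPX t.2, by rw [orderOf_coe, ht]⟩

theorem pElementClosure_inherit {X : Subgroup G} (hX : Cfsg.IsStronglyPEmbedded p X) :
    Cfsg.IsStronglyPEmbedded p (X.subgroupOf (Cfsg.pElementClosure p (⊤ : Subgroup G))) := by
  obtain ⟨t, ht, hto⟩ := exists_order_p hX
  set E := Cfsg.pElementClosure p (⊤ : Subgroup G) with hE
  have hmem : ∀ g : G, g * t * g⁻¹ ∈ E := fun g =>
    subset_closure ⟨mem_top _, 1, by
      rw [show g * t * g⁻¹ = MulAut.conj g t from rfl, MulEquiv.orderOf_eq, hto, pow_one]⟩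
  have htE : t ∈ E := by simpa using hmem 1
  have h1 := subgroupOf (H := E) hX ?_ ?_
  · rwa [inf_subgroupOf_left] at h1
  · intro hle
    exact hX.2.1 ((eq_top_iff' X).2 fun g => fusion_criterion hX ht hto (hle (hmem g)))
  · calc p = orderOf (⟨t, htE, ht⟩ : ↥(E ⊓ X)) := by rw [← orderOf_coe]; exact hto.symm
      _ ∣ _ := orderOf_dvd_natCard _

theorem quotient_inherit {X : Subgroup G} (hX : Cfsg.IsStronglyPEmbedded p X)
    (hne : X ⊔ Cfsg.pPrimeCore p G ≠ ⊤) :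
    Cfsg.IsStronglyPEmbedded p (X.map (QuotientGroup.mk' (Cfsg.pPrimeCore p G))) := by
  set O := Cfsg.pPrimeCore p G with hO
  set f := QuotientGroup.mk' O with hf
  have hcomap : (X.map f).comap f = X ⊔ O := by
    rw [comap_map_eq, hf, QuotientGroup.ker_mk']
  refine of_criterion ?_ ?_ ?_
  · intro h
    exact hne (by rw [← hcomap, h, comap_top])
  · obtain ⟨t, ht, hto⟩ := exists_order_p hX
    have h1 : orderOf (f t) = p := by
      refine orderOf_eq_prime ?_ ?_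
      · rw [← map_pow, orderOf_dvd_iff_pow_eq_one.1 hto.dvd, map_one]
      · intro h
        have h2 := Subgroup.orderOf_dvd_natCard O ((QuotientGroup.eq_one_iff t).1 h)
        rw [hto] at h2
        exact (Cfsg.Lib.Core.coprime_iff_not_dvd'.1 (Cfsg.Lib.Core.pPrimeCore_coprime p G)) h2
    calc p = orderOf (⟨f t, mem_map_of_mem f ht⟩ : ↥(X.map f)) := by rw [Subgroup.orderOf_mk, h1]
      _ ∣ _ := orderOf_dvd_natCard _
  · rintro _ ⟨a, ha, rfl⟩ hto gbar hg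
    obtain ⟨g, rfl⟩ := QuotientGroup.mk'_surjective O gbar
    -- the `p`-part `u` of `a`
    obtain ⟨k, m, hm, hkm⟩ := Nat.exists_eq_pow_mul_and_not_dvd (orderOf_pos a).ne' p (Fact.out : p.Prime).ne_one
    set u := a ^ m with hu
    have huo : orderOf u = p ^ k := by
      rw [hu, orderOf_pow' _ (by rintro rfl; simp at hm), hkm, Nat.gcd_mul_left_left,
        Nat.mul_div_cancel _ (Nat.pos_of_ne_zero (by rintro rfl; simp at hm))]
    have hune : f u ≠ 1 := by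
      rw [hu, map_pow]
      intro h
      have h2 := orderOf_dvd_of_pow_eq_one h
      rw [hto] at h2
      exact hm h2
    have huX : u ∈ X := pow_mem ha m
    have hgu : g * u * g⁻¹ ∈ X ⊔ O := by
      have h1 : (QuotientGroup.mk' O g * f a * (QuotientGroup.mk' O g)⁻¹) ^ m ∈ X.map f := pow_mem hg m
      rw [conj_pow, ← map_pow, ← map_inv, ← map_mul, ← map_mul] at h1
      exact hcomap.le (show g * u * g⁻¹ ∈ (X.map f).comap f from h1)
    -- conjugate back into `X`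
    have hP : ∃ P : Sylow p G, (P : Subgroup G) ≤ X := by
      obtain ⟨hdvd, -, P, hP⟩ := hX
      exact ⟨P, le_normalizer.trans ((Cfsg.Lib.FusionSys.normalizer_le_kGeneratedCore P.isPGroup' le_rfl
        (P.ne_bot_of_dvd_card hdvd)).trans hP)⟩
    obtain ⟨P, hPX⟩ := hP
    have hPW : (P : Subgroup G) ≤ X ⊔ O := hPX.trans le_sup_left
    have hgp : IsPGroup p ↥(zpowers (⟨g * u * g⁻¹, hgu⟩ : ↥(X ⊔ O))) :=
      IsPGroup.of_card (n := k) (by
        rw [Nat.card_zpowers, Subgroup.orderOf_mk, show g * u * g⁻¹ = MulAut.conj g u from rfl,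
          MulEquiv.orderOf_eq, huo])
    obtain ⟨R, hR⟩ := hgp.exists_le_sylow
    obtain ⟨w, hw⟩ := MulAction.exists_smul_eq ↥(X ⊔ O) R (P.subtype hPW)
    have h1 : w * ⟨g * u * g⁻¹, hgu⟩ * w⁻¹ ∈ (P.subtype hPW : Subgroup ↥(X ⊔ O)) := by
      rw [← hw, Sylow.smul_def]
      exact ⟨⟨g * u * g⁻¹, hgu⟩, hR (mem_zpowers _), rfl⟩
    have h2 : ((w : G) * g) * u * ((w : G) * g)⁻¹ ∈ X := by
      have : ((w : G) * g) * u * ((w : G) * g)⁻¹ = (w : G) * (g * u * g⁻¹) * (w : G)⁻¹ := by group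
      rw [this]
      exact hPX h1
    have hk0 : k ≠ 0 := by
      rintro rfl
      rw [pow_zero, orderOf_eq_one_iff] at huo
      exact hune (by rw [huo, map_one])
    have hv : orderOf (u ^ p ^ (k - 1)) = p := by
      rw [orderOf_pow' _ (pow_ne_zero _ (Fact.out : p.Prime).ne_zero), huo,
        Nat.gcd_eq_right (pow_dvd_pow p (Nat.sub_le k 1)), Nat.pow_div (Nat.sub_le k 1) (Fact.out : p.Prime).pos,
        Nat.sub_sub_self (Nat.one_le_iff_ne_zero.2 hk0), pow_one]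
    have h3 := fusion_criterion hX (pow_mem huX (p ^ (k - 1))) hv (g := (w : G) * g)
      (by rw [← conj_pow]; exact pow_mem h2 _)
    have h4 : g ∈ X ⊔ O := by
      have := mul_mem (inv_mem w.2) (mem_sup_left (T := O) h3)
      simpa using this
    exact (show g ∈ (X.map f).comap f from hcomap.ge h4)

end Cfsg.Lib.SPEmbedded
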